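import Mathlib
import Cfsg.Prelude.Def_SporCoxeter

/-! A presentation of the double cover `2·U₆(2)` on eight involutions: the `E₇`-type nodes
`c, d, e, f, g, h, i` of the `Fi₂₂` diagram together with `w = (abcdeh)⁵`, which is joined to `f`
and `i`. -/

set_option autoImplicit false

namespace Cfsg.Agent.Helper17.U62

namespace U6P

inductive Gen
  | c
  | d
  | e
  | f
  | g
  | h
  | i
  | w
  deriving DecidableEq

abbrev c : FreeGroup Gen := FreeGroup.of Gen.c
abbrev d : FreeGroup Gen := FreeGroup.of Gen.d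
abbrev e : FreeGroup Gen := FreeGroup.of Gen.e
abbrev f : FreeGroup Gen := FreeGroup.of Gen.f
abbrev g : FreeGroup Gen := FreeGroup.of Gen.g
abbrev h : FreeGroup Gen := FreeGroup.of Gen.h
abbrev i : FreeGroup Gen := FreeGroup.of Gen.i
abbrev w : FreeGroup Gen := FreeGroup.of Gen.w

def edges : List (Gen × ℕ × Gen) :=
  [(.c, 3, .d), (.d, 3, .e), (.d, 3, .h), (.e, 3, .f), (.f, 3, .g), (.h, 3, .i), (.w, 3, .f),
    (.w, 3, .i)]

def extra : List (FreeGroup Gen) := [
  (i * h * d * e * f * g * c) ^ 9,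
  (w * f * e * d * h * i * h * d * e * f) ^ 3,
  (w * f * e * d * h * i) ^ 5,
  (f * i * e * g * w * h) ^ 5 ]

end U6P

end Cfsg.Agent.Helper17.U62
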