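import Mathlib
import Cfsg.Prelude.Def_Classical
import Cfsg.Prelude.Def_ClassicalGeometry

/-!
# A concrete field with four elements and `6 × 6` matrices over it, as kernel-friendly data

`F4` is `{a + b ω}` with `ω² = ω + 1`; `V6`, `M6` are structures of six entries / six rows whose
operations evaluate quickly, with the bridge `toMat` to `Matrix (Fin 6) (Fin 6) F4`.
-/

set_option autoImplicit false
set_option linter.all false

namespace Cfsg.Agent.Helper17.U62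

open Matrix

/-- the field with four elements: `a + b ω`, `ω² = ω + 1`. -/
structure F4 where
  a : Bool
  b : Bool
deriving DecidableEq, Fintype

namespace F4

instance : Zero F4 := ⟨⟨false, false⟩⟩
instance : One F4 := ⟨⟨true, false⟩⟩
instance : Add F4 := ⟨fun x y => ⟨xor x.a y.a, xor x.b y.b⟩⟩
instance : Neg F4 := ⟨fun x => x⟩
instance : Mul F4 := ⟨fun x y => ⟨xor (x.a && y.a) (x.b && y.b),
  xor (xor (x.a && y.b) (x.b && y.a)) (x.b && y.b)⟩⟩
instance : Inv F4 := ⟨fun x => x * x⟩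

instance : CommRing F4 where
  add_assoc := by decide
  zero_add := by decide
  add_zero := by decide
  nsmul := nsmulRec
  zsmul := zsmulRec
  neg_add_cancel := by decide
  add_comm := by decide
  left_distrib := by decide
  right_distrib := by decide
  zero_mul := by decide
  mul_zero := by decide
  mul_assoc := by decide
  one_mul := by decide
  mul_one := by decide
  mul_comm := by decide

instance : Field F4 where
  exists_pair_ne := ⟨0, 1, by decide⟩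
  mul_inv_cancel := by decide
  inv_zero := by decide
  nnqsmul := _
  qsmul := _

theorem card : Fintype.card F4 = 4 := by decide

/-- the four elements `0, 1, ω, ω²`. -/
def e0 : F4 := ⟨false, false⟩
def e1 : F4 := ⟨true, false⟩
def e2 : F4 := ⟨false, true⟩
def e3 : F4 := ⟨true, true⟩

theorem e0_eq : e0 = 0 := rfl
theorem e1_eq : e1 = 1 := rfl

theorem cases (x : F4) : x = e0 ∨ x = e1 ∨ x = e2 ∨ x = e3 := by
  revert x; decide

theorem sq_eq (x : F4) : x ^ 2 = x * x := sq x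

theorem cube_eq_one : ∀ x : F4, x ≠ 0 → x * x * x = 1 := by decide

theorem add_self_eq (x : F4) : x + x = 0 := by revert x; decide

theorem neg_eq (x : F4) : -x = x := rfl

end F4

/-- six entries. -/
structure V6 where
  a0 : F4
  a1 : F4
  a2 : F4
  a3 : F4
  a4 : F4
  a5 : F4
deriving DecidableEq

/-- six rows. -/
structure M6 where
  r0 : V6
  r1 : V6
  r2 : V6
  r3 : V6
  r4 : V6
  r5 : V6
deriving DecidableEq

namespace V6

def dot (r c : V6) : F4 :=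
  r.a0 * c.a0 + r.a1 * c.a1 + r.a2 * c.a2 + r.a3 * c.a3 + r.a4 * c.a4 + r.a5 * c.a5

def getN (v : V6) : Nat → F4
  | 0 => v.a0
  | 1 => v.a1
  | 2 => v.a2
  | 3 => v.a3
  | 4 => v.a4
  | _ => v.a5

def get (v : V6) (j : Fin 6) : F4 := v.getN j.val

/-- the vector as a function. -/
def toVec (v : V6) : Fin 6 → F4 := v.get

/-- the data of a function. -/
def ofVec (u : Fin 6 → F4) : V6 := ⟨u 0, u 1, u 2, u 3, u 4, u 5⟩

theorem toVec_ofVec (u : Fin 6 → F4) : (ofVec u).toVec = u := by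
  funext j
  fin_cases j <;> rfl

theorem ofVec_toVec (v : V6) : ofVec v.toVec = v := rfl

def zero : V6 := ⟨0, 0, 0, 0, 0, 0⟩

def add (u v : V6) : V6 :=
  ⟨u.a0 + v.a0, u.a1 + v.a1, u.a2 + v.a2, u.a3 + v.a3, u.a4 + v.a4, u.a5 + v.a5⟩

def smul (c : F4) (v : V6) : V6 := ⟨c * v.a0, c * v.a1, c * v.a2, c * v.a3, c * v.a4, c * v.a5⟩

/-- entrywise Frobenius. -/
def conj (v : V6) : V6 :=
  ⟨v.a0 * v.a0, v.a1 * v.a1, v.a2 * v.a2, v.a3 * v.a3, v.a4 * v.a4, v.a5 * v.a5⟩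

/-- the Hermitian form `Σ u_i v_i²`. -/
def herm (u v : V6) : F4 := u.dot v.conj

def basis : Nat → V6
  | 0 => ⟨1, 0, 0, 0, 0, 0⟩
  | 1 => ⟨0, 1, 0, 0, 0, 0⟩
  | 2 => ⟨0, 0, 1, 0, 0, 0⟩
  | 3 => ⟨0, 0, 0, 1, 0, 0⟩
  | 4 => ⟨0, 0, 0, 0, 1, 0⟩
  | _ => ⟨0, 0, 0, 0, 0, 1⟩

theorem toVec_zero : zero.toVec = 0 := by
  funext j
  fin_cases j <;> rfl

theorem toVec_smul (c : F4) (v : V6) : (smul c v).toVec = c • v.toVec := by
  funext j
  fin_cases j <;> rfl

theorem toVec_add (u v : V6) : (add u v).toVec = u.toVec + v.toVec := by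
  funext j
  fin_cases j <;> rfl

theorem toVec_injective : Function.Injective toVec := by
  intro u v h
  have := congrArg ofVec h
  rwa [ofVec_toVec, ofVec_toVec] at this

theorem dot_eq (r c : V6) : r.dot c = ∑ k : Fin 6, r.get k * c.get k := by
  rw [Fin.sum_univ_six]
  rfl

end V6

namespace M6

def tr (A : M6) : M6 :=
  ⟨⟨A.r0.a0, A.r1.a0, A.r2.a0, A.r3.a0, A.r4.a0, A.r5.a0⟩,
   ⟨A.r0.a1, A.r1.a1, A.r2.a1, A.r3.a1, A.r4.a1, A.r5.a1⟩,
   ⟨A.r0.a2, A.r1.a2, A.r2.a2, A.r3.a2, A.r4.a2, A.r5.a2⟩,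
   ⟨A.r0.a3, A.r1.a3, A.r2.a3, A.r3.a3, A.r4.a3, A.r5.a3⟩,
   ⟨A.r0.a4, A.r1.a4, A.r2.a4, A.r3.a4, A.r4.a4, A.r5.a4⟩,
   ⟨A.r0.a5, A.r1.a5, A.r2.a5, A.r3.a5, A.r4.a5, A.r5.a5⟩⟩

def rowMul (r : V6) (Bt : M6) : V6 :=
  ⟨r.dot Bt.r0, r.dot Bt.r1, r.dot Bt.r2, r.dot Bt.r3, r.dot Bt.r4, r.dot Bt.r5⟩

def mulT (A Bt : M6) : M6 :=
  ⟨rowMul A.r0 Bt, rowMul A.r1 Bt, rowMul A.r2 Bt, rowMul A.r3 Bt, rowMul A.r4 Bt,
    rowMul A.r5 Bt⟩

def mul (A B : M6) : M6 := mulT A B.tr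

/-- matrix times column vector. -/
def mvec (A : M6) (v : V6) : V6 :=
  ⟨A.r0.dot v, A.r1.dot v, A.r2.dot v, A.r3.dot v, A.r4.dot v, A.r5.dot v⟩

def one : M6 :=
  ⟨V6.basis 0, V6.basis 1, V6.basis 2, V6.basis 3, V6.basis 4, V6.basis 5⟩

/-- scalar matrix. -/
def scal (c : F4) : M6 :=
  ⟨V6.smul c (V6.basis 0), V6.smul c (V6.basis 1), V6.smul c (V6.basis 2), V6.smul c (V6.basis 3),
    V6.smul c (V6.basis 4), V6.smul c (V6.basis 5)⟩

def rowN (A : M6) : Nat → V6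
  | 0 => A.r0
  | 1 => A.r1
  | 2 => A.r2
  | 3 => A.r3
  | 4 => A.r4
  | _ => A.r5

def row (A : M6) (i : Fin 6) : V6 := A.rowN i.val

/-- the transvection `z ↦ z + h(z, v) v`. -/
def trv (v : V6) : M6 :=
  ⟨V6.add (V6.basis 0) (V6.smul v.a0 v.conj), V6.add (V6.basis 1) (V6.smul v.a1 v.conj),
   V6.add (V6.basis 2) (V6.smul v.a2 v.conj), V6.add (V6.basis 3) (V6.smul v.a3 v.conj),
   V6.add (V6.basis 4) (V6.smul v.a4 v.conj), V6.add (V6.basis 5) (V6.smul v.a5 v.conj)⟩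

end M6

/-- the matrix described by the data -/
def toMat (A : M6) : Matrix (Fin 6) (Fin 6) F4 :=
  Matrix.of fun i j => (A.row i).get j

theorem toMat_apply (A : M6) (i j : Fin 6) : toMat A i j = (A.row i).get j := rfl

theorem toMat_injective : Function.Injective toMat := by
  intro A B h
  have h' : ∀ i j, (A.row i).get j = (B.row i).get j := fun i j => by
    rw [← toMat_apply, ← toMat_apply, h]
  obtain ⟨⟨a00, a01, a02, a03, a04, a05⟩, ⟨a10, a11, a12, a13, a14, a15⟩,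
    ⟨a20, a21, a22, a23, a24, a25⟩, ⟨a30, a31, a32, a33, a34, a35⟩,
    ⟨a40, a41, a42, a43, a44, a45⟩, ⟨a50, a51, a52, a53, a54, a55⟩⟩ := A
  obtain ⟨⟨b00, b01, b02, b03, b04, b05⟩, ⟨b10, b11, b12, b13, b14, b15⟩,
    ⟨b20, b21, b22, b23, b24, b25⟩, ⟨b30, b31, b32, b33, b34, b35⟩,
    ⟨b40, b41, b42, b43, b44, b45⟩, ⟨b50, b51, b52, b53, b54, b55⟩⟩ := B
  have e00 : a00 = b00 := h' 0 0
  have e01 : a01 = b01 := h' 0 1
  have e02 : a02 = b02 := h' 0 2
  have e03 : a03 = b03 := h' 0 3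
  have e04 : a04 = b04 := h' 0 4
  have e05 : a05 = b05 := h' 0 5
  have e10 : a10 = b10 := h' 1 0
  have e11 : a11 = b11 := h' 1 1
  have e12 : a12 = b12 := h' 1 2
  have e13 : a13 = b13 := h' 1 3
  have e14 : a14 = b14 := h' 1 4
  have e15 : a15 = b15 := h' 1 5
  have e20 : a20 = b20 := h' 2 0
  have e21 : a21 = b21 := h' 2 1
  have e22 : a22 = b22 := h' 2 2
  have e23 : a23 = b23 := h' 2 3
  have e24 : a24 = b24 := h' 2 4
  have e25 : a25 = b25 := h' 2 5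
  have e30 : a30 = b30 := h' 3 0
  have e31 : a31 = b31 := h' 3 1
  have e32 : a32 = b32 := h' 3 2
  have e33 : a33 = b33 := h' 3 3
  have e34 : a34 = b34 := h' 3 4
  have e35 : a35 = b35 := h' 3 5
  have e40 : a40 = b40 := h' 4 0
  have e41 : a41 = b41 := h' 4 1
  have e42 : a42 = b42 := h' 4 2
  have e43 : a43 = b43 := h' 4 3
  have e44 : a44 = b44 := h' 4 4
  have e45 : a45 = b45 := h' 4 5
  have e50 : a50 = b50 := h' 5 0
  have e51 : a51 = b51 := h' 5 1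
  have e52 : a52 = b52 := h' 5 2
  have e53 : a53 = b53 := h' 5 3
  have e54 : a54 = b54 := h' 5 4
  have e55 : a55 = b55 := h' 5 5
  subst e00 e01 e02 e03 e04 e05 e10 e11 e12 e13 e14 e15 e20 e21 e22 e23 e24 e25
  subst e30 e31 e32 e33 e34 e35 e40 e41 e42 e43 e44 e45 e50 e51 e52 e53 e54 e55
  rfl

theorem toMat_mul (A B : M6) : toMat (A.mul B) = toMat A * toMat B := by
  ext i j
  rw [Matrix.mul_apply, Fin.sum_univ_six]
  fin_cases i <;> fin_cases j <;> rfl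

theorem toMat_one : toMat M6.one = 1 := by
  ext i j
  fin_cases i <;> fin_cases j <;> decide

theorem toMat_mulVec (A : M6) (v : V6) : toMat A *ᵥ v.toVec = (A.mvec v).toVec := by
  funext i
  show (fun j => toMat A i j) ⬝ᵥ v.toVec = _
  rw [dotProduct, Fin.sum_univ_six]
  fin_cases i <;> rfl

theorem herm_eq (u v : V6) : Cfsg.hermForm 6 F4 2 u.toVec v.toVec = u.herm v := by
  unfold Cfsg.hermForm
  rw [Fin.sum_univ_six]
  simp only [F4.sq_eq]
  rfl

theorem toMat_trv (v : V6) : toMat (M6.trv v) = Cfsg.unitaryTransvection 6 2 v.toVec 1 := by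
  ext i j
  unfold Cfsg.unitaryTransvection
  rw [one_smul, Matrix.add_apply, Matrix.vecMulVec_apply, F4.sq_eq, Matrix.one_apply]
  obtain ⟨a0, a1, a2, a3, a4, a5⟩ := v
  fin_cases i <;> fin_cases j <;>
    simp [toMat_apply, M6.trv, M6.row, M6.rowN, V6.get, V6.getN, V6.add, V6.smul, V6.conj,
      V6.basis, V6.toVec]

theorem toMat_scal (c : F4) : toMat (M6.scal c) = c • (1 : Matrix (Fin 6) (Fin 6) F4) := by
  ext i j
  rw [Matrix.smul_apply, Matrix.one_apply]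
  fin_cases i <;> fin_cases j <;>
    simp [toMat_apply, M6.scal, M6.row, M6.rowN, V6.get, V6.getN, V6.smul, V6.basis]

end Cfsg.Agent.Helper17.U62
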