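import Mathlib
import Cfsg.Agent.Helper17.U62.F4
import Cfsg.Agent.Helper17.U62.Defs
import Cfsg.Agent.S0781
import Cfsg.Agent.S2644
import Cfsg.Agent.Helper28.Herm

/-!
# Eight unitary transvections in `SU₆(2)` satisfying the relations of `2·U₆(2)` modulo scalars
-/

set_option autoImplicit false
set_option linter.all false

namespace Cfsg.Agent.Helper17.U62

open Matrix

/-- the isotropic vectors of the eight generators. -/
def vecG : U6P.Gen → V6
  | .c => ⟨F4.e0, F4.e1, F4.e0, F4.e3, F4.e2, F4.e1⟩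
  | .d => ⟨F4.e0, F4.e1, F4.e0, F4.e2, F4.e1, F4.e2⟩
  | .e => ⟨F4.e1, F4.e0, F4.e0, F4.e1, F4.e2, F4.e3⟩
  | .f => ⟨F4.e1, F4.e1, F4.e3, F4.e2, F4.e2, F4.e3⟩
  | .g => ⟨F4.e1, F4.e2, F4.e0, F4.e0, F4.e1, F4.e1⟩
  | .h => ⟨F4.e0, F4.e1, F4.e3, F4.e0, F4.e1, F4.e2⟩
  | .i => ⟨F4.e1, F4.e0, F4.e2, F4.e2, F4.e1, F4.e0⟩
  | .w => ⟨F4.e1, F4.e1, F4.e1, F4.e3, F4.e1, F4.e3⟩

theorem vecG_iso (x : U6P.Gen) : (vecG x).herm (vecG x) = 0 := by
  cases x <;> decide

/-- the generator matrices as data. -/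
def letM (x : U6P.Gen) : M6 := M6.trv (vecG x)

theorem frobF4 : ∃ σ : F4 →+* F4, (∀ x, σ x = x ^ 2) ∧ (∀ x, σ (σ x) = x) :=
  Cfsg.Agent.Helper28.exists_frob (q := 2) (by rw [F4.card]; norm_num)

/-- `SU₆(2)`. -/
abbrev SU6 : Type := ↥(Cfsg.SU 6 F4 2)

theorem trv_det {v : V6} (hv : v.herm v = 0) : (toMat (M6.trv v)).det = 1 := by
  rw [toMat_trv]
  exact Cfsg.Agent.S0781.det_T _ _ (by rw [herm_eq]; exact hv)

theorem trv_pres {v : V6} (hv : v.herm v = 0) :
    Cfsg.Agent.S2644.Pres (q := 2) (toMat (M6.trv v)) := by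
  obtain ⟨σ, hσ, hσ2⟩ := frobF4
  rw [toMat_trv]
  exact Cfsg.Agent.S0781.Pres_T σ hσ hσ2 _ _ (by rw [herm_eq]; exact hv) (by decide)

/-- the transvection with an isotropic centre, in `SU₆(2)`. -/
def tSU (v : V6) (hv : v.herm v = 0) : SU6 :=
  Cfsg.Agent.S2644.mkSU (toMat (M6.trv v)) (trv_det hv) (trv_pres hv)

theorem toM_tSU (v : V6) (hv : v.herm v = 0) :
    Cfsg.Agent.S2644.toM F4 6 2 (tSU v hv) = toMat (M6.trv v) := rfl

/-- the generators in `SU₆(2)`. -/
def gS (x : U6P.Gen) : SU6 := tSU (vecG x) (vecG_iso x)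

theorem toM_gS (x : U6P.Gen) : Cfsg.Agent.S2644.toM F4 6 2 (gS x) = toMat (letM x) := rfl

/-- product of a word on the data. -/
def evM : List U6P.Gen → M6
  | [] => M6.one
  | a :: w => (letM a).mul (evM w)

/-- product of a word in `SU₆(2)`. -/
def evS (w : List U6P.Gen) : SU6 := (w.map gS).prod

theorem toM_evS (w : List U6P.Gen) : Cfsg.Agent.S2644.toM F4 6 2 (evS w) = toMat (evM w) := by
  induction w with
  | nil => simp [evS, evM, toMat_one]
  | cons a w ih =>
    have : evS (a :: w) = gS a * evS w := by simp [evS]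
    rw [this, map_mul, ih, evM, toMat_mul, toM_gS]

theorem evS_eq_one {w : List U6P.Gen} (h : evM w = M6.one) : evS w = 1 := by
  apply Cfsg.Agent.S2644.toM_injective
  rw [toM_evS, h, toMat_one, map_one]

theorem evS_append (u v : List U6P.Gen) : evS (u ++ v) = evS u * evS v := by
  simp [evS]

theorem evS_replicate (k : ℕ) (u : List U6P.Gen) :
    evS (List.replicate k u).flatten = evS u ^ k := by
  induction k with
  | zero => simp [evS]
  | succ k ih => rw [List.replicate_succ, List.flatten_cons, evS_append, ih, pow_succ']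

/-- an element of `SU₆(2)` with scalar matrix is central. -/
theorem mem_center_of_scal {z : SU6} {c : F4}
    (h : Cfsg.Agent.S2644.toM F4 6 2 z = c • (1 : Matrix (Fin 6) (Fin 6) F4)) :
    z ∈ Subgroup.center SU6 := by
  rw [Subgroup.mem_center_iff]
  intro g
  apply Cfsg.Agent.S2644.toM_injective
  rw [map_mul, map_mul, h, Matrix.smul_mul, Matrix.mul_smul, Matrix.one_mul, Matrix.mul_one]

theorem evS_mem_center {w : List U6P.Gen} {c : F4} (h : evM w = M6.scal c) :
    evS w ∈ Subgroup.center SU6 := by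
  apply mem_center_of_scal (c := c)
  rw [toM_evS, h, toMat_scal]

theorem pair_pow (x y : U6P.Gen) (k : ℕ)
    (h : evM (List.replicate k [x, y]).flatten = M6.one) : (gS x * gS y) ^ k = 1 := by
  have h1 := evS_eq_one h
  rw [evS_replicate] at h1
  simpa [evS] using h1

theorem coxS (x y : U6P.Gen) :
    (gS x * gS y) ^ Cfsg.Spor.coxLabel U6P.edges x y = 1 := by
  cases x <;> cases y <;> exact pair_pow _ _ _ (by decide +kernel)

theorem exE7 : evS [.i, .h, .d, .e, .f, .g, .c] ^ 9 = 1 := by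
  rw [← evS_replicate]
  exact evS_eq_one (by decide +kernel)

theorem exTR : evS [.w, .f, .e, .d, .h, .i, .h, .d, .e, .f] ^ 3 = 1 := by
  rw [← evS_replicate]
  exact evS_eq_one (by decide +kernel)

theorem exCX : evS [.w, .f, .e, .d, .h, .i] ^ 5 ∈ Subgroup.center SU6 := by
  rw [← evS_replicate]
  exact evS_mem_center (c := F4.e2) (by decide +kernel)

theorem exK5 : evS [.f, .i, .e, .g, .w, .h] ^ 5 = 1 := by
  rw [← evS_replicate]
  exact evS_eq_one (by decide +kernel)

/-- the central involution maps to the identity. -/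
theorem exA : evS [.w, .e, .c, .f, .e, .d, .c, .e, .h, .d] ^ 3 = 1 := by
  rw [← evS_replicate]
  exact evS_eq_one (by decide +kernel)

end Cfsg.Agent.Helper17.U62
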