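import Mathlib
import Cfsg.Agent.Helper17.U62.Gens

/-!
# The orbit of the eight transvections on the 693 isotropic points: data and checks
-/

set_option autoImplicit false
set_option linter.all false
set_option maxRecDepth 100000

namespace Cfsg.Agent.Helper17.U62

/-- representatives of the 693 isotropic points. -/
def pts : List V6 := [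
  ⟨F4.e0, F4.e1, F4.e0, F4.e3, F4.e2, F4.e1⟩,
  ⟨F4.e0, F4.e1, F4.e0, F4.e0, F4.e0, F4.e3⟩,
  ⟨F4.e0, F4.e1, F4.e0, F4.e2, F4.e1, F4.e2⟩,
  ⟨F4.e1, F4.e1, F4.e0, F4.e1, F4.e2, F4.e0⟩,
  ⟨F4.e0, F4.e1, F4.e1, F4.e0, F4.e2, F4.e1⟩,
  ⟨F4.e1, F4.e3, F4.e0, F4.e0, F4.e1, F4.e2⟩,
  ⟨F4.e0, F4.e0, F4.e1, F4.e3, F4.e0, F4.e0⟩,
  ⟨F4.e1, F4.e1, F4.e2, F4.e3, F4.e2, F4.e2⟩,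
  ⟨F4.e1, F4.e2, F4.e2, F4.e1, F4.e1, F4.e1⟩,
  ⟨F4.e1, F4.e1, F4.e3, F4.e2, F4.e3, F4.e1⟩,
  ⟨F4.e1, F4.e0, F4.e0, F4.e1, F4.e2, F4.e3⟩,
  ⟨F4.e1, F4.e2, F4.e2, F4.e1, F4.e3, F4.e1⟩,
  ⟨F4.e1, F4.e0, F4.e2, F4.e0, F4.e2, F4.e3⟩,
  ⟨F4.e0, F4.e1, F4.e3, F4.e0, F4.e1, F4.e2⟩,
  ⟨F4.e1, F4.e0, F4.e3, F4.e1, F4.e1, F4.e0⟩,
  ⟨F4.e1, F4.e3, F4.e3, F4.e1, F4.e0, F4.e0⟩,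
  ⟨F4.e1, F4.e0, F4.e1, F4.e3, F4.e3, F4.e0⟩,
  ⟨F4.e1, F4.e1, F4.e0, F4.e3, F4.e0, F4.e1⟩,
  ⟨F4.e1, F4.e1, F4.e2, F4.e0, F4.e2, F4.e0⟩,
  ⟨F4.e1, F4.e3, F4.e2, F4.e3, F4.e1, F4.e2⟩,
  ⟨F4.e0, F4.e0, F4.e1, F4.e3, F4.e1, F4.e1⟩,
  ⟨F4.e1, F4.e3, F4.e2, F4.e3, F4.e2, F4.e3⟩,
  ⟨F4.e1, F4.e2, F4.e3, F4.e2, F4.e2, F4.e1⟩,
  ⟨F4.e1, F4.e3, F4.e1, F4.e1, F4.e2, F4.e3⟩,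
  ⟨F4.e1, F4.e0, F4.e0, F4.e0, F4.e2, F4.e0⟩,
  ⟨F4.e1, F4.e0, F4.e2, F4.e1, F4.e0, F4.e1⟩,
  ⟨F4.e1, F4.e2, F4.e3, F4.e2, F4.e3, F4.e3⟩,
  ⟨F4.e0, F4.e1, F4.e2, F4.e2, F4.e0, F4.e3⟩,
  ⟨F4.e1, F4.e1, F4.e2, F4.e1, F4.e2, F4.e3⟩,
  ⟨F4.e1, F4.e0, F4.e0, F4.e2, F4.e2, F4.e1⟩,
  ⟨F4.e1, F4.e1, F4.e1, F4.e1, F4.e2, F4.e2⟩,
  ⟨F4.e1, F4.e0, F4.e0, F4.e1, F4.e0, F4.e0⟩,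
  ⟨F4.e1, F4.e3, F4.e1, F4.e3, F4.e2, F4.e2⟩,
  ⟨F4.e1, F4.e3, F4.e3, F4.e1, F4.e2, F4.e3⟩,
  ⟨F4.e1, F4.e2, F4.e2, F4.e1, F4.e0, F4.e0⟩,
  ⟨F4.e1, F4.e0, F4.e3, F4.e3, F4.e1, F4.e0⟩,
  ⟨F4.e1, F4.e1, F4.e2, F4.e1, F4.e3, F4.e2⟩,
  ⟨F4.e1, F4.e1, F4.e3, F4.e2, F4.e2, F4.e3⟩,
  ⟨F4.e1, F4.e0, F4.e3, F4.e1, F4.e0, F4.e2⟩,
  ⟨F4.e1, F4.e2, F4.e0, F4.e3, F4.e0, F4.e3⟩,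
  ⟨F4.e1, F4.e0, F4.e2, F4.e2, F4.e0, F4.e2⟩,
  ⟨F4.e1, F4.e3, F4.e0, F4.e0, F4.e3, F4.e2⟩,
  ⟨F4.e1, F4.e2, F4.e0, F4.e0, F4.e3, F4.e2⟩,
  ⟨F4.e1, F4.e2, F4.e1, F4.e0, F4.e0, F4.e3⟩,
  ⟨F4.e1, F4.e0, F4.e3, F4.e3, F4.e3, F4.e0⟩,
  ⟨F4.e1, F4.e2, F4.e3, F4.e2, F4.e2, F4.e2⟩,
  ⟨F4.e1, F4.e0, F4.e2, F4.e2, F4.e1, F4.e0⟩,
  ⟨F4.e0, F4.e1, F4.e3, F4.e2, F4.e3, F4.e0⟩,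
  ⟨F4.e1, F4.e2, F4.e2, F4.e3, F4.e2, F4.e1⟩,
  ⟨F4.e1, F4.e3, F4.e2, F4.e2, F4.e0, F4.e0⟩,
  ⟨F4.e0, F4.e1, F4.e0, F4.e3, F4.e3, F4.e3⟩,
  ⟨F4.e1, F4.e1, F4.e3, F4.e2, F4.e3, F4.e3⟩,
  ⟨F4.e1, F4.e2, F4.e1, F4.e2, F4.e2, F4.e2⟩,
  ⟨F4.e1, F4.e0, F4.e1, F4.e2, F4.e0, F4.e2⟩,
  ⟨F4.e1, F4.e2, F4.e2, F4.e1, F4.e2, F4.e1⟩,
  ⟨F4.e1, F4.e3, F4.e0, F4.e0, F4.e3, F4.e1⟩,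
  ⟨F4.e1, F4.e1, F4.e1, F4.e0, F4.e0, F4.e1⟩,
  ⟨F4.e1, F4.e2, F4.e2, F4.e2, F4.e2, F4.e1⟩,
  ⟨F4.e1, F4.e1, F4.e3, F4.e0, F4.e0, F4.e3⟩,
  ⟨F4.e1, F4.e1, F4.e2, F4.e1, F4.e0, F4.e0⟩,
  ⟨F4.e1, F4.e3, F4.e1, F4.e1, F4.e1, F4.e2⟩,
  ⟨F4.e1, F4.e3, F4.e3, F4.e2, F4.e2, F4.e1⟩,
  ⟨F4.e0, F4.e1, F4.e0, F4.e1, F4.e3, F4.e3⟩,
  ⟨F4.e0, F4.e1, F4.e2, F4.e0, F4.e1, F4.e1⟩,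
  ⟨F4.e1, F4.e0, F4.e1, F4.e3, F4.e0, F4.e3⟩,
  ⟨F4.e1, F4.e0, F4.e2, F4.e1, F4.e3, F4.e0⟩,
  ⟨F4.e1, F4.e1, F4.e0, F4.e0, F4.e3, F4.e3⟩,
  ⟨F4.e1, F4.e2, F4.e0, F4.e2, F4.e2, F4.e0⟩,
  ⟨F4.e1, F4.e1, F4.e3, F4.e1, F4.e2, F4.e2⟩,
  ⟨F4.e0, F4.e0, F4.e0, F4.e0, F4.e1, F4.e2⟩,
  ⟨F4.e1, F4.e2, F4.e3, F4.e0, F4.e2, F4.e0⟩,
  ⟨F4.e1, F4.e0, F4.e1, F4.e3, F4.e1, F4.e0⟩,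
  ⟨F4.e1, F4.e1, F4.e1, F4.e1, F4.e2, F4.e3⟩,
  ⟨F4.e1, F4.e3, F4.e2, F4.e1, F4.e0, F4.e0⟩,
  ⟨F4.e1, F4.e3, F4.e3, F4.e1, F4.e3, F4.e1⟩,
  ⟨F4.e1, F4.e2, F4.e2, F4.e3, F4.e1, F4.e3⟩,
  ⟨F4.e0, F4.e1, F4.e0, F4.e0, F4.e0, F4.e2⟩,
  ⟨F4.e0, F4.e1, F4.e3, F4.e1, F4.e0, F4.e3⟩,
  ⟨F4.e1, F4.e3, F4.e2, F4.e1, F4.e3, F4.e3⟩,
  ⟨F4.e0, F4.e1, F4.e1, F4.e1, F4.e0, F4.e1⟩,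
  ⟨F4.e1, F4.e2, F4.e1, F4.e2, F4.e3, F4.e1⟩,
  ⟨F4.e1, F4.e2, F4.e1, F4.e3, F4.e3, F4.e1⟩,
  ⟨F4.e0, F4.e1, F4.e0, F4.e0, F4.e2, F4.e0⟩,
  ⟨F4.e1, F4.e0, F4.e3, F4.e0, F4.e2, F4.e1⟩,
  ⟨F4.e1, F4.e2, F4.e1, F4.e1, F4.e3, F4.e1⟩,
  ⟨F4.e1, F4.e1, F4.e3, F4.e2, F4.e1, F4.e3⟩,
  ⟨F4.e0, F4.e1, F4.e1, F4.e0, F4.e2, F4.e3⟩,
  ⟨F4.e0, F4.e1, F4.e3, F4.e2, F4.e0, F4.e3⟩,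
  ⟨F4.e0, F4.e1, F4.e2, F4.e0, F4.e2, F4.e1⟩,
  ⟨F4.e1, F4.e3, F4.e3, F4.e2, F4.e3, F4.e3⟩,
  ⟨F4.e0, F4.e1, F4.e0, F4.e2, F4.e2, F4.e3⟩,
  ⟨F4.e1, F4.e3, F4.e3, F4.e2, F4.e3, F4.e2⟩,
  ⟨F4.e1, F4.e0, F4.e2, F4.e0, F4.e0, F4.e0⟩,
  ⟨F4.e1, F4.e0, F4.e2, F4.e1, F4.e0, F4.e2⟩,
  ⟨F4.e1, F4.e2, F4.e3, F4.e1, F4.e3, F4.e2⟩,
  ⟨F4.e1, F4.e0, F4.e1, F4.e2, F4.e2, F4.e0⟩,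
  ⟨F4.e1, F4.e1, F4.e2, F4.e2, F4.e3, F4.e3⟩,
  ⟨F4.e1, F4.e3, F4.e2, F4.e0, F4.e2, F4.e0⟩,
  ⟨F4.e1, F4.e3, F4.e2, F4.e2, F4.e2, F4.e3⟩,
  ⟨F4.e1, F4.e0, F4.e1, F4.e2, F4.e1, F4.e0⟩,
  ⟨F4.e0, F4.e1, F4.e0, F4.e0, F4.e0, F4.e1⟩,
  ⟨F4.e1, F4.e3, F4.e0, F4.e2, F4.e0, F4.e1⟩,
  ⟨F4.e1, F4.e0, F4.e0, F4.e2, F4.e0, F4.e0⟩,
  ⟨F4.e0, F4.e1, F4.e1, F4.e3, F4.e1, F4.e0⟩,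
  ⟨F4.e1, F4.e0, F4.e3, F4.e0, F4.e3, F4.e3⟩,
  ⟨F4.e1, F4.e2, F4.e0, F4.e0, F4.e1, F4.e1⟩,
  ⟨F4.e1, F4.e3, F4.e0, F4.e0, F4.e2, F4.e2⟩,
  ⟨F4.e1, F4.e1, F4.e1, F4.e3, F4.e1, F4.e3⟩,
  ⟨F4.e1, F4.e2, F4.e1, F4.e1, F4.e2, F4.e1⟩,
  ⟨F4.e1, F4.e3, F4.e1, F4.e2, F4.e2, F4.e1⟩,
  ⟨F4.e1, F4.e3, F4.e1, F4.e2, F4.e0, F4.e0⟩,
  ⟨F4.e1, F4.e2, F4.e1, F4.e1, F4.e1, F4.e3⟩,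
  ⟨F4.e1, F4.e1, F4.e1, F4.e3, F4.e2, F4.e2⟩,
  ⟨F4.e1, F4.e3, F4.e3, F4.e3, F4.e2, F4.e1⟩,
  ⟨F4.e0, F4.e1, F4.e3, F4.e1, F4.e2, F4.e0⟩,
  ⟨F4.e0, F4.e0, F4.e1, F4.e2, F4.e3, F4.e3⟩,
  ⟨F4.e0, F4.e0, F4.e1, F4.e2, F4.e0, F4.e0⟩,
  ⟨F4.e1, F4.e2, F4.e3, F4.e1, F4.e1, F4.e2⟩,
  ⟨F4.e1, F4.e2, F4.e1, F4.e3, F4.e1, F4.e2⟩,
  ⟨F4.e1, F4.e2, F4.e2, F4.e0, F4.e2, F4.e0⟩,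
  ⟨F4.e1, F4.e1, F4.e2, F4.e1, F4.e1, F4.e2⟩,
  ⟨F4.e1, F4.e1, F4.e2, F4.e2, F4.e2, F4.e2⟩,
  ⟨F4.e1, F4.e2, F4.e0, F4.e1, F4.e2, F4.e0⟩,
  ⟨F4.e1, F4.e3, F4.e0, F4.e0, F4.e1, F4.e3⟩,
  ⟨F4.e1, F4.e1, F4.e1, F4.e3, F4.e0, F4.e0⟩,
  ⟨F4.e0, F4.e0, F4.e1, F4.e3, F4.e1, F4.e3⟩,
  ⟨F4.e1, F4.e1, F4.e3, F4.e3, F4.e1, F4.e2⟩,
  ⟨F4.e1, F4.e3, F4.e2, F4.e1, F4.e1, F4.e2⟩,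
  ⟨F4.e1, F4.e1, F4.e0, F4.e1, F4.e0, F4.e3⟩,
  ⟨F4.e1, F4.e0, F4.e1, F4.e3, F4.e2, F4.e0⟩,
  ⟨F4.e0, F4.e1, F4.e1, F4.e0, F4.e3, F4.e3⟩,
  ⟨F4.e1, F4.e3, F4.e1, F4.e3, F4.e2, F4.e3⟩,
  ⟨F4.e1, F4.e2, F4.e3, F4.e3, F4.e2, F4.e2⟩,
  ⟨F4.e0, F4.e0, F4.e1, F4.e2, F4.e3, F4.e1⟩,
  ⟨F4.e1, F4.e0, F4.e0, F4.e3, F4.e0, F4.e0⟩,
  ⟨F4.e1, F4.e3, F4.e3, F4.e3, F4.e2, F4.e2⟩,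
  ⟨F4.e0, F4.e1, F4.e3, F4.e3, F4.e3, F4.e0⟩,
  ⟨F4.e1, F4.e3, F4.e1, F4.e2, F4.e1, F4.e2⟩,
  ⟨F4.e0, F4.e1, F4.e2, F4.e0, F4.e3, F4.e1⟩,
  ⟨F4.e0, F4.e1, F4.e1, F4.e2, F4.e3, F4.e0⟩,
  ⟨F4.e1, F4.e2, F4.e3, F4.e1, F4.e1, F4.e1⟩,
  ⟨F4.e0, F4.e1, F4.e0, F4.e0, F4.e3, F4.e0⟩,
  ⟨F4.e1, F4.e3, F4.e2, F4.e3, F4.e2, F4.e1⟩,
  ⟨F4.e1, F4.e0, F4.e3, F4.e3, F4.e0, F4.e2⟩,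
  ⟨F4.e0, F4.e0, F4.e1, F4.e3, F4.e1, F4.e2⟩,
  ⟨F4.e1, F4.e0, F4.e1, F4.e1, F4.e3, F4.e0⟩,
  ⟨F4.e1, F4.e0, F4.e3, F4.e2, F4.e1, F4.e0⟩,
  ⟨F4.e0, F4.e1, F4.e2, F4.e0, F4.e3, F4.e3⟩,
  ⟨F4.e1, F4.e2, F4.e3, F4.e1, F4.e2, F4.e1⟩,
  ⟨F4.e1, F4.e3, F4.e1, F4.e3, F4.e1, F4.e1⟩,
  ⟨F4.e1, F4.e0, F4.e2, F4.e0, F4.e2, F4.e1⟩,
  ⟨F4.e1, F4.e3, F4.e0, F4.e1, F4.e2, F4.e0⟩,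
  ⟨F4.e1, F4.e0, F4.e2, F4.e0, F4.e2, F4.e2⟩,
  ⟨F4.e1, F4.e3, F4.e3, F4.e1, F4.e3, F4.e2⟩,
  ⟨F4.e0, F4.e0, F4.e1, F4.e0, F4.e1, F4.e0⟩,
  ⟨F4.e1, F4.e2, F4.e0, F4.e2, F4.e0, F4.e2⟩,
  ⟨F4.e1, F4.e2, F4.e2, F4.e2, F4.e3, F4.e2⟩,
  ⟨F4.e1, F4.e1, F4.e2, F4.e3, F4.e1, F4.e1⟩,
  ⟨F4.e1, F4.e2, F4.e1, F4.e3, F4.e2, F4.e3⟩,
  ⟨F4.e1, F4.e1, F4.e0, F4.e0, F4.e1, F4.e2⟩,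
  ⟨F4.e1, F4.e2, F4.e0, F4.e0, F4.e1, F4.e3⟩,
  ⟨F4.e1, F4.e0, F4.e0, F4.e3, F4.e3, F4.e1⟩,
  ⟨F4.e0, F4.e1, F4.e3, F4.e3, F4.e0, F4.e2⟩,
  ⟨F4.e1, F4.e1, F4.e3, F4.e2, F4.e2, F4.e1⟩,
  ⟨F4.e0, F4.e1, F4.e0, F4.e1, F4.e1, F4.e1⟩,
  ⟨F4.e1, F4.e2, F4.e3, F4.e3, F4.e1, F4.e3⟩,
  ⟨F4.e1, F4.e2, F4.e3, F4.e3, F4.e3, F4.e1⟩,
  ⟨F4.e0, F4.e1, F4.e1, F4.e0, F4.e1, F4.e2⟩,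
  ⟨F4.e1, F4.e2, F4.e2, F4.e2, F4.e1, F4.e2⟩,
  ⟨F4.e1, F4.e0, F4.e1, F4.e2, F4.e3, F4.e0⟩,
  ⟨F4.e1, F4.e1, F4.e0, F4.e0, F4.e2, F4.e1⟩,
  ⟨F4.e1, F4.e2, F4.e3, F4.e0, F4.e0, F4.e3⟩,
  ⟨F4.e0, F4.e1, F4.e1, F4.e3, F4.e0, F4.e3⟩,
  ⟨F4.e1, F4.e2, F4.e1, F4.e1, F4.e3, F4.e3⟩,
  ⟨F4.e0, F4.e1, F4.e3, F4.e2, F4.e0, F4.e1⟩,
  ⟨F4.e1, F4.e0, F4.e3, F4.e0, F4.e2, F4.e3⟩,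
  ⟨F4.e0, F4.e1, F4.e0, F4.e1, F4.e1, F4.e2⟩,
  ⟨F4.e1, F4.e1, F4.e2, F4.e2, F4.e1, F4.e3⟩,
  ⟨F4.e1, F4.e3, F4.e3, F4.e3, F4.e0, F4.e0⟩,
  ⟨F4.e1, F4.e3, F4.e2, F4.e2, F4.e3, F4.e1⟩,
  ⟨F4.e1, F4.e2, F4.e3, F4.e2, F4.e1, F4.e3⟩,
  ⟨F4.e0, F4.e1, F4.e2, F4.e3, F4.e0, F4.e1⟩,
  ⟨F4.e1, F4.e1, F4.e0, F4.e0, F4.e1, F4.e1⟩,
  ⟨F4.e1, F4.e0, F4.e2, F4.e1, F4.e0, F4.e3⟩,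
  ⟨F4.e1, F4.e2, F4.e0, F4.e2, F4.e0, F4.e3⟩,
  ⟨F4.e0, F4.e1, F4.e1, F4.e0, F4.e3, F4.e2⟩,
  ⟨F4.e1, F4.e2, F4.e3, F4.e2, F4.e2, F4.e3⟩,
  ⟨F4.e1, F4.e1, F4.e3, F4.e1, F4.e0, F4.e0⟩,
  ⟨F4.e1, F4.e1, F4.e2, F4.e3, F4.e1, F4.e3⟩,
  ⟨F4.e1, F4.e2, F4.e2, F4.e1, F4.e3, F4.e2⟩,
  ⟨F4.e1, F4.e1, F4.e2, F4.e2, F4.e2, F4.e3⟩,
  ⟨F4.e1, F4.e0, F4.e3, F4.e0, F4.e0, F4.e0⟩,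
  ⟨F4.e1, F4.e2, F4.e2, F4.e3, F4.e3, F4.e1⟩,
  ⟨F4.e1, F4.e2, F4.e0, F4.e0, F4.e2, F4.e3⟩,
  ⟨F4.e1, F4.e1, F4.e3, F4.e0, F4.e0, F4.e1⟩,
  ⟨F4.e1, F4.e1, F4.e1, F4.e1, F4.e3, F4.e1⟩,
  ⟨F4.e0, F4.e1, F4.e0, F4.e1, F4.e3, F4.e1⟩,
  ⟨F4.e1, F4.e0, F4.e0, F4.e2, F4.e1, F4.e2⟩,
  ⟨F4.e0, F4.e1, F4.e0, F4.e2, F4.e3, F4.e3⟩,
  ⟨F4.e1, F4.e0, F4.e3, F4.e1, F4.e2, F4.e0⟩,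
  ⟨F4.e1, F4.e2, F4.e0, F4.e3, F4.e3, F4.e0⟩,
  ⟨F4.e1, F4.e2, F4.e3, F4.e3, F4.e0, F4.e0⟩,
  ⟨F4.e1, F4.e2, F4.e2, F4.e2, F4.e0, F4.e0⟩,
  ⟨F4.e1, F4.e2, F4.e1, F4.e1, F4.e1, F4.e1⟩,
  ⟨F4.e0, F4.e0, F4.e1, F4.e1, F4.e1, F4.e2⟩,
  ⟨F4.e1, F4.e1, F4.e3, F4.e0, F4.e2, F4.e0⟩,
  ⟨F4.e1, F4.e3, F4.e0, F4.e1, F4.e0, F4.e3⟩,
  ⟨F4.e0, F4.e1, F4.e3, F4.e3, F4.e0, F4.e3⟩,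
  ⟨F4.e0, F4.e1, F4.e0, F4.e1, F4.e2, F4.e1⟩,
  ⟨F4.e1, F4.e2, F4.e1, F4.e3, F4.e3, F4.e3⟩,
  ⟨F4.e1, F4.e3, F4.e3, F4.e1, F4.e1, F4.e1⟩,
  ⟨F4.e0, F4.e0, F4.e1, F4.e3, F4.e3, F4.e2⟩,
  ⟨F4.e0, F4.e1, F4.e3, F4.e0, F4.e2, F4.e3⟩,
  ⟨F4.e1, F4.e1, F4.e2, F4.e1, F4.e2, F4.e2⟩,
  ⟨F4.e1, F4.e3, F4.e0, F4.e3, F4.e0, F4.e2⟩,
  ⟨F4.e1, F4.e0, F4.e3, F4.e3, F4.e2, F4.e0⟩,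
  ⟨F4.e1, F4.e2, F4.e3, F4.e0, F4.e0, F4.e2⟩,
  ⟨F4.e1, F4.e1, F4.e3, F4.e2, F4.e1, F4.e1⟩,
  ⟨F4.e0, F4.e1, F4.e1, F4.e2, F4.e0, F4.e2⟩,
  ⟨F4.e1, F4.e1, F4.e0, F4.e2, F4.e0, F4.e3⟩,
  ⟨F4.e1, F4.e3, F4.e2, F4.e1, F4.e1, F4.e3⟩,
  ⟨F4.e0, F4.e1, F4.e1, F4.e0, F4.e2, F4.e2⟩,
  ⟨F4.e1, F4.e2, F4.e1, F4.e0, F4.e0, F4.e1⟩,
  ⟨F4.e1, F4.e0, F4.e0, F4.e1, F4.e2, F4.e1⟩,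
  ⟨F4.e1, F4.e3, F4.e3, F4.e0, F4.e0, F4.e1⟩,
  ⟨F4.e1, F4.e3, F4.e1, F4.e0, F4.e0, F4.e2⟩,
  ⟨F4.e1, F4.e3, F4.e2, F4.e1, F4.e2, F4.e3⟩,
  ⟨F4.e1, F4.e2, F4.e0, F4.e0, F4.e1, F4.e2⟩,
  ⟨F4.e1, F4.e2, F4.e1, F4.e1, F4.e1, F4.e2⟩,
  ⟨F4.e1, F4.e3, F4.e3, F4.e3, F4.e1, F4.e3⟩,
  ⟨F4.e0, F4.e0, F4.e0, F4.e1, F4.e2, F4.e0⟩,
  ⟨F4.e1, F4.e1, F4.e3, F4.e2, F4.e2, F4.e2⟩,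
  ⟨F4.e1, F4.e0, F4.e0, F4.e2, F4.e3, F4.e3⟩,
  ⟨F4.e0, F4.e1, F4.e3, F4.e0, F4.e0, F4.e0⟩,
  ⟨F4.e0, F4.e1, F4.e2, F4.e0, F4.e1, F4.e2⟩,
  ⟨F4.e1, F4.e2, F4.e2, F4.e3, F4.e2, F4.e2⟩,
  ⟨F4.e1, F4.e1, F4.e2, F4.e3, F4.e2, F4.e3⟩,
  ⟨F4.e1, F4.e1, F4.e1, F4.e1, F4.e1, F4.e1⟩,
  ⟨F4.e1, F4.e2, F4.e0, F4.e3, F4.e2, F4.e0⟩,
  ⟨F4.e0, F4.e1, F4.e0, F4.e0, F4.e1, F4.e0⟩,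
  ⟨F4.e1, F4.e3, F4.e3, F4.e3, F4.e3, F4.e3⟩,
  ⟨F4.e1, F4.e3, F4.e0, F4.e0, F4.e1, F4.e1⟩,
  ⟨F4.e0, F4.e0, F4.e1, F4.e1, F4.e1, F4.e1⟩,
  ⟨F4.e1, F4.e1, F4.e3, F4.e1, F4.e1, F4.e3⟩,
  ⟨F4.e1, F4.e3, F4.e2, F4.e1, F4.e2, F4.e1⟩,
  ⟨F4.e1, F4.e0, F4.e1, F4.e0, F4.e2, F4.e3⟩,
  ⟨F4.e0, F4.e1, F4.e2, F4.e2, F4.e2, F4.e0⟩,
  ⟨F4.e1, F4.e1, F4.e0, F4.e0, F4.e3, F4.e1⟩,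
  ⟨F4.e0, F4.e1, F4.e2, F4.e3, F4.e3, F4.e0⟩,
  ⟨F4.e0, F4.e1, F4.e0, F4.e3, F4.e1, F4.e2⟩,
  ⟨F4.e1, F4.e0, F4.e1, F4.e2, F4.e0, F4.e1⟩,
  ⟨F4.e1, F4.e1, F4.e3, F4.e2, F4.e3, F4.e2⟩,
  ⟨F4.e1, F4.e1, F4.e1, F4.e2, F4.e1, F4.e2⟩,
  ⟨F4.e1, F4.e3, F4.e1, F4.e2, F4.e3, F4.e3⟩,
  ⟨F4.e1, F4.e1, F4.e3, F4.e0, F4.e3, F4.e0⟩,
  ⟨F4.e1, F4.e3, F4.e3, F4.e2, F4.e2, F4.e3⟩,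
  ⟨F4.e0, F4.e0, F4.e1, F4.e1, F4.e3, F4.e2⟩,
  ⟨F4.e1, F4.e0, F4.e1, F4.e3, F4.e0, F4.e1⟩,
  ⟨F4.e1, F4.e1, F4.e3, F4.e3, F4.e1, F4.e3⟩,
  ⟨F4.e1, F4.e1, F4.e2, F4.e0, F4.e0, F4.e3⟩,
  ⟨F4.e1, F4.e3, F4.e3, F4.e2, F4.e0, F4.e0⟩,
  ⟨F4.e1, F4.e1, F4.e1, F4.e2, F4.e2, F4.e3⟩,
  ⟨F4.e1, F4.e3, F4.e2, F4.e2, F4.e3, F4.e2⟩,
  ⟨F4.e1, F4.e0, F4.e1, F4.e0, F4.e0, F4.e0⟩,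
  ⟨F4.e0, F4.e1, F4.e0, F4.e3, F4.e1, F4.e3⟩,
  ⟨F4.e0, F4.e1, F4.e0, F4.e3, F4.e0, F4.e0⟩,
  ⟨F4.e0, F4.e0, F4.e0, F4.e0, F4.e1, F4.e3⟩,
  ⟨F4.e1, F4.e1, F4.e3, F4.e3, F4.e3, F4.e2⟩,
  ⟨F4.e1, F4.e2, F4.e1, F4.e0, F4.e3, F4.e0⟩,
  ⟨F4.e1, F4.e2, F4.e3, F4.e1, F4.e0, F4.e0⟩,
  ⟨F4.e1, F4.e1, F4.e1, F4.e0, F4.e2, F4.e0⟩,
  ⟨F4.e0, F4.e1, F4.e0, F4.e3, F4.e2, F4.e3⟩,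
  ⟨F4.e1, F4.e1, F4.e0, F4.e0, F4.e0, F4.e0⟩,
  ⟨F4.e1, F4.e1, F4.e0, F4.e3, F4.e1, F4.e0⟩,
  ⟨F4.e0, F4.e0, F4.e1, F4.e0, F4.e0, F4.e1⟩,
  ⟨F4.e1, F4.e3, F4.e2, F4.e3, F4.e3, F4.e2⟩,
  ⟨F4.e1, F4.e3, F4.e1, F4.e1, F4.e1, F4.e1⟩,
  ⟨F4.e1, F4.e3, F4.e2, F4.e0, F4.e0, F4.e2⟩,
  ⟨F4.e1, F4.e1, F4.e0, F4.e2, F4.e0, F4.e1⟩,
  ⟨F4.e1, F4.e1, F4.e1, F4.e3, F4.e3, F4.e1⟩,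
  ⟨F4.e0, F4.e1, F4.e3, F4.e0, F4.e2, F4.e1⟩,
  ⟨F4.e1, F4.e1, F4.e2, F4.e3, F4.e3, F4.e1⟩,
  ⟨F4.e1, F4.e0, F4.e0, F4.e1, F4.e3, F4.e2⟩,
  ⟨F4.e0, F4.e1, F4.e2, F4.e1, F4.e0, F4.e2⟩,
  ⟨F4.e1, F4.e0, F4.e1, F4.e0, F4.e3, F4.e1⟩,
  ⟨F4.e1, F4.e3, F4.e2, F4.e0, F4.e0, F4.e3⟩,
  ⟨F4.e0, F4.e0, F4.e1, F4.e2, F4.e2, F4.e2⟩,
  ⟨F4.e1, F4.e1, F4.e0, F4.e2, F4.e2, F4.e0⟩,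
  ⟨F4.e0, F4.e1, F4.e3, F4.e1, F4.e3, F4.e0⟩,
  ⟨F4.e1, F4.e3, F4.e2, F4.e3, F4.e2, F4.e2⟩,
  ⟨F4.e0, F4.e1, F4.e0, F4.e2, F4.e2, F4.e1⟩,
  ⟨F4.e1, F4.e3, F4.e0, F4.e2, F4.e3, F4.e0⟩,
  ⟨F4.e1, F4.e3, F4.e1, F4.e1, F4.e2, F4.e1⟩,
  ⟨F4.e1, F4.e1, F4.e0, F4.e1, F4.e0, F4.e2⟩,
  ⟨F4.e0, F4.e1, F4.e1, F4.e0, F4.e1, F4.e3⟩,
  ⟨F4.e1, F4.e1, F4.e2, F4.e1, F4.e1, F4.e1⟩,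
  ⟨F4.e0, F4.e1, F4.e2, F4.e1, F4.e2, F4.e0⟩,
  ⟨F4.e1, F4.e0, F4.e2, F4.e3, F4.e3, F4.e0⟩,
  ⟨F4.e1, F4.e1, F4.e1, F4.e3, F4.e2, F4.e1⟩,
  ⟨F4.e0, F4.e1, F4.e0, F4.e3, F4.e3, F4.e2⟩,
  ⟨F4.e1, F4.e1, F4.e3, F4.e1, F4.e3, F4.e3⟩,
  ⟨F4.e1, F4.e3, F4.e1, F4.e2, F4.e1, F4.e3⟩,
  ⟨F4.e1, F4.e0, F4.e0, F4.e1, F4.e2, F4.e2⟩,
  ⟨F4.e1, F4.e0, F4.e2, F4.e2, F4.e0, F4.e1⟩,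
  ⟨F4.e1, F4.e0, F4.e3, F4.e2, F4.e0, F4.e2⟩,
  ⟨F4.e1, F4.e3, F4.e1, F4.e3, F4.e0, F4.e0⟩,
  ⟨F4.e1, F4.e0, F4.e1, F4.e0, F4.e1, F4.e1⟩,
  ⟨F4.e1, F4.e0, F4.e3, F4.e1, F4.e0, F4.e3⟩,
  ⟨F4.e1, F4.e2, F4.e0, F4.e3, F4.e0, F4.e1⟩,
  ⟨F4.e0, F4.e1, F4.e3, F4.e3, F4.e0, F4.e1⟩,
  ⟨F4.e1, F4.e2, F4.e1, F4.e2, F4.e1, F4.e3⟩,
  ⟨F4.e0, F4.e0, F4.e1, F4.e3, F4.e2, F4.e3⟩,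
  ⟨F4.e1, F4.e3, F4.e0, F4.e2, F4.e1, F4.e0⟩,
  ⟨F4.e0, F4.e0, F4.e1, F4.e1, F4.e0, F4.e0⟩,
  ⟨F4.e1, F4.e0, F4.e3, F4.e3, F4.e0, F4.e1⟩,
  ⟨F4.e1, F4.e3, F4.e2, F4.e2, F4.e1, F4.e1⟩,
  ⟨F4.e1, F4.e0, F4.e0, F4.e0, F4.e0, F4.e3⟩,
  ⟨F4.e1, F4.e2, F4.e0, F4.e1, F4.e0, F4.e3⟩,
  ⟨F4.e0, F4.e1, F4.e1, F4.e3, F4.e2, F4.e0⟩,
  ⟨F4.e1, F4.e1, F4.e2, F4.e2, F4.e0, F4.e0⟩,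
  ⟨F4.e1, F4.e0, F4.e1, F4.e3, F4.e0, F4.e2⟩,
  ⟨F4.e1, F4.e2, F4.e2, F4.e3, F4.e2, F4.e3⟩,
  ⟨F4.e1, F4.e2, F4.e1, F4.e1, F4.e2, F4.e2⟩,
  ⟨F4.e1, F4.e2, F4.e2, F4.e3, F4.e3, F4.e3⟩,
  ⟨F4.e1, F4.e2, F4.e0, F4.e0, F4.e0, F4.e0⟩,
  ⟨F4.e1, F4.e0, F4.e0, F4.e2, F4.e2, F4.e3⟩,
  ⟨F4.e0, F4.e0, F4.e1, F4.e3, F4.e2, F4.e2⟩,
  ⟨F4.e1, F4.e2, F4.e2, F4.e0, F4.e0, F4.e3⟩,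
  ⟨F4.e0, F4.e0, F4.e0, F4.e0, F4.e1, F4.e1⟩,
  ⟨F4.e1, F4.e2, F4.e1, F4.e1, F4.e2, F4.e3⟩,
  ⟨F4.e1, F4.e1, F4.e3, F4.e3, F4.e1, F4.e1⟩,
  ⟨F4.e1, F4.e1, F4.e1, F4.e1, F4.e1, F4.e3⟩,
  ⟨F4.e1, F4.e2, F4.e1, F4.e3, F4.e2, F4.e2⟩,
  ⟨F4.e0, F4.e0, F4.e0, F4.e1, F4.e3, F4.e0⟩,
  ⟨F4.e1, F4.e3, F4.e2, F4.e1, F4.e3, F4.e1⟩,
  ⟨F4.e1, F4.e1, F4.e3, F4.e1, F4.e2, F4.e3⟩,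
  ⟨F4.e1, F4.e2, F4.e3, F4.e2, F4.e1, F4.e2⟩,
  ⟨F4.e1, F4.e1, F4.e0, F4.e2, F4.e3, F4.e0⟩,
  ⟨F4.e1, F4.e3, F4.e3, F4.e3, F4.e2, F4.e3⟩,
  ⟨F4.e1, F4.e0, F4.e3, F4.e1, F4.e3, F4.e0⟩,
  ⟨F4.e0, F4.e1, F4.e3, F4.e0, F4.e3, F4.e3⟩,
  ⟨F4.e0, F4.e0, F4.e1, F4.e1, F4.e2, F4.e3⟩,
  ⟨F4.e0, F4.e1, F4.e2, F4.e1, F4.e1, F4.e0⟩,
  ⟨F4.e0, F4.e1, F4.e0, F4.e1, F4.e2, F4.e3⟩,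
  ⟨F4.e1, F4.e0, F4.e0, F4.e1, F4.e1, F4.e1⟩,
  ⟨F4.e1, F4.e3, F4.e2, F4.e0, F4.e1, F4.e0⟩,
  ⟨F4.e1, F4.e0, F4.e2, F4.e2, F4.e0, F4.e3⟩,
  ⟨F4.e1, F4.e3, F4.e2, F4.e3, F4.e1, F4.e1⟩,
  ⟨F4.e1, F4.e1, F4.e2, F4.e3, F4.e2, F4.e1⟩,
  ⟨F4.e1, F4.e3, F4.e1, F4.e2, F4.e2, F4.e2⟩,
  ⟨F4.e1, F4.e3, F4.e3, F4.e3, F4.e1, F4.e2⟩,
  ⟨F4.e1, F4.e0, F4.e2, F4.e0, F4.e3, F4.e2⟩,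
  ⟨F4.e0, F4.e1, F4.e0, F4.e3, F4.e2, F4.e2⟩,
  ⟨F4.e1, F4.e0, F4.e0, F4.e3, F4.e2, F4.e1⟩,
  ⟨F4.e1, F4.e3, F4.e0, F4.e0, F4.e3, F4.e3⟩,
  ⟨F4.e1, F4.e0, F4.e3, F4.e0, F4.e1, F4.e2⟩,
  ⟨F4.e0, F4.e1, F4.e2, F4.e2, F4.e1, F4.e0⟩,
  ⟨F4.e0, F4.e0, F4.e1, F4.e2, F4.e1, F4.e1⟩,
  ⟨F4.e1, F4.e2, F4.e1, F4.e0, F4.e1, F4.e0⟩,
  ⟨F4.e0, F4.e1, F4.e2, F4.e0, F4.e1, F4.e3⟩,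
  ⟨F4.e1, F4.e1, F4.e1, F4.e2, F4.e3, F4.e2⟩,
  ⟨F4.e1, F4.e2, F4.e1, F4.e2, F4.e0, F4.e0⟩,
  ⟨F4.e1, F4.e2, F4.e2, F4.e1, F4.e2, F4.e2⟩,
  ⟨F4.e1, F4.e2, F4.e3, F4.e2, F4.e0, F4.e0⟩,
  ⟨F4.e1, F4.e1, F4.e0, F4.e3, F4.e2, F4.e0⟩,
  ⟨F4.e1, F4.e2, F4.e2, F4.e3, F4.e1, F4.e2⟩,
  ⟨F4.e1, F4.e2, F4.e2, F4.e2, F4.e1, F4.e1⟩,
  ⟨F4.e0, F4.e1, F4.e2, F4.e2, F4.e3, F4.e0⟩,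
  ⟨F4.e1, F4.e1, F4.e2, F4.e0, F4.e0, F4.e1⟩,
  ⟨F4.e1, F4.e2, F4.e0, F4.e0, F4.e3, F4.e3⟩,
  ⟨F4.e1, F4.e2, F4.e0, F4.e0, F4.e2, F4.e2⟩,
  ⟨F4.e0, F4.e0, F4.e1, F4.e1, F4.e3, F4.e3⟩,
  ⟨F4.e1, F4.e0, F4.e0, F4.e3, F4.e1, F4.e3⟩,
  ⟨F4.e1, F4.e3, F4.e0, F4.e1, F4.e3, F4.e0⟩,
  ⟨F4.e1, F4.e1, F4.e1, F4.e2, F4.e3, F4.e3⟩,
  ⟨F4.e1, F4.e1, F4.e0, F4.e3, F4.e0, F4.e2⟩,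
  ⟨F4.e0, F4.e1, F4.e2, F4.e0, F4.e3, F4.e2⟩,
  ⟨F4.e1, F4.e2, F4.e3, F4.e1, F4.e2, F4.e2⟩,
  ⟨F4.e1, F4.e0, F4.e2, F4.e2, F4.e3, F4.e0⟩,
  ⟨F4.e1, F4.e3, F4.e3, F4.e2, F4.e1, F4.e1⟩,
  ⟨F4.e1, F4.e1, F4.e3, F4.e2, F4.e1, F4.e2⟩,
  ⟨F4.e1, F4.e1, F4.e2, F4.e2, F4.e1, F4.e2⟩,
  ⟨F4.e1, F4.e2, F4.e1, F4.e3, F4.e3, F4.e2⟩,
  ⟨F4.e0, F4.e0, F4.e1, F4.e0, F4.e3, F4.e0⟩,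
  ⟨F4.e1, F4.e3, F4.e1, F4.e1, F4.e3, F4.e2⟩,
  ⟨F4.e0, F4.e1, F4.e3, F4.e2, F4.e2, F4.e0⟩,
  ⟨F4.e1, F4.e0, F4.e2, F4.e0, F4.e1, F4.e2⟩,
  ⟨F4.e0, F4.e1, F4.e0, F4.e2, F4.e0, F4.e0⟩,
  ⟨F4.e1, F4.e1, F4.e0, F4.e0, F4.e3, F4.e2⟩,
  ⟨F4.e1, F4.e2, F4.e1, F4.e0, F4.e2, F4.e0⟩,
  ⟨F4.e0, F4.e1, F4.e1, F4.e1, F4.e3, F4.e0⟩,
  ⟨F4.e1, F4.e3, F4.e1, F4.e3, F4.e3, F4.e1⟩,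
  ⟨F4.e0, F4.e0, F4.e1, F4.e2, F4.e2, F4.e1⟩,
  ⟨F4.e1, F4.e0, F4.e0, F4.e3, F4.e2, F4.e3⟩,
  ⟨F4.e1, F4.e2, F4.e1, F4.e3, F4.e0, F4.e0⟩,
  ⟨F4.e1, F4.e2, F4.e2, F4.e1, F4.e3, F4.e3⟩,
  ⟨F4.e1, F4.e1, F4.e1, F4.e2, F4.e1, F4.e3⟩,
  ⟨F4.e0, F4.e1, F4.e3, F4.e2, F4.e0, F4.e2⟩,
  ⟨F4.e1, F4.e3, F4.e3, F4.e0, F4.e0, F4.e3⟩,
  ⟨F4.e1, F4.e0, F4.e0, F4.e3, F4.e3, F4.e3⟩,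
  ⟨F4.e1, F4.e2, F4.e0, F4.e2, F4.e0, F4.e1⟩,
  ⟨F4.e1, F4.e1, F4.e3, F4.e3, F4.e2, F4.e3⟩,
  ⟨F4.e1, F4.e1, F4.e2, F4.e3, F4.e0, F4.e0⟩,
  ⟨F4.e1, F4.e2, F4.e2, F4.e1, F4.e1, F4.e3⟩,
  ⟨F4.e1, F4.e1, F4.e1, F4.e2, F4.e1, F4.e1⟩,
  ⟨F4.e1, F4.e2, F4.e3, F4.e1, F4.e3, F4.e1⟩,
  ⟨F4.e1, F4.e0, F4.e1, F4.e1, F4.e0, F4.e2⟩,
  ⟨F4.e1, F4.e2, F4.e1, F4.e1, F4.e3, F4.e2⟩,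
  ⟨F4.e0, F4.e1, F4.e2, F4.e0, F4.e2, F4.e3⟩,
  ⟨F4.e0, F4.e0, F4.e0, F4.e1, F4.e0, F4.e1⟩,
  ⟨F4.e1, F4.e1, F4.e0, F4.e3, F4.e0, F4.e3⟩,
  ⟨F4.e0, F4.e0, F4.e1, F4.e2, F4.e1, F4.e2⟩,
  ⟨F4.e1, F4.e1, F4.e2, F4.e3, F4.e3, F4.e3⟩,
  ⟨F4.e1, F4.e2, F4.e1, F4.e0, F4.e0, F4.e2⟩,
  ⟨F4.e1, F4.e0, F4.e3, F4.e0, F4.e1, F4.e3⟩,
  ⟨F4.e0, F4.e1, F4.e2, F4.e2, F4.e0, F4.e2⟩,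
  ⟨F4.e0, F4.e1, F4.e3, F4.e1, F4.e1, F4.e0⟩,
  ⟨F4.e1, F4.e0, F4.e2, F4.e2, F4.e2, F4.e0⟩,
  ⟨F4.e1, F4.e2, F4.e0, F4.e3, F4.e1, F4.e0⟩,
  ⟨F4.e1, F4.e0, F4.e3, F4.e1, F4.e0, F4.e1⟩,
  ⟨F4.e1, F4.e1, F4.e1, F4.e2, F4.e3, F4.e1⟩,
  ⟨F4.e1, F4.e2, F4.e2, F4.e3, F4.e1, F4.e1⟩,
  ⟨F4.e1, F4.e0, F4.e2, F4.e3, F4.e0, F4.e1⟩,
  ⟨F4.e1, F4.e1, F4.e0, F4.e1, F4.e0, F4.e1⟩,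
  ⟨F4.e1, F4.e1, F4.e3, F4.e3, F4.e3, F4.e3⟩,
  ⟨F4.e0, F4.e1, F4.e2, F4.e1, F4.e3, F4.e0⟩,
  ⟨F4.e1, F4.e1, F4.e1, F4.e0, F4.e1, F4.e0⟩,
  ⟨F4.e1, F4.e1, F4.e1, F4.e1, F4.e2, F4.e1⟩,
  ⟨F4.e1, F4.e0, F4.e0, F4.e1, F4.e1, F4.e3⟩,
  ⟨F4.e0, F4.e1, F4.e0, F4.e1, F4.e1, F4.e3⟩,
  ⟨F4.e1, F4.e2, F4.e2, F4.e0, F4.e0, F4.e1⟩,
  ⟨F4.e1, F4.e1, F4.e3, F4.e3, F4.e3, F4.e1⟩,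
  ⟨F4.e1, F4.e3, F4.e3, F4.e1, F4.e2, F4.e1⟩,
  ⟨F4.e1, F4.e0, F4.e0, F4.e0, F4.e0, F4.e1⟩,
  ⟨F4.e1, F4.e3, F4.e3, F4.e2, F4.e3, F4.e1⟩,
  ⟨F4.e1, F4.e3, F4.e0, F4.e0, F4.e2, F4.e1⟩,
  ⟨F4.e1, F4.e0, F4.e0, F4.e3, F4.e1, F4.e1⟩,
  ⟨F4.e1, F4.e1, F4.e2, F4.e0, F4.e0, F4.e2⟩,
  ⟨F4.e1, F4.e3, F4.e3, F4.e0, F4.e3, F4.e0⟩,
  ⟨F4.e0, F4.e1, F4.e1, F4.e2, F4.e0, F4.e3⟩,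
  ⟨F4.e1, F4.e0, F4.e1, F4.e0, F4.e1, F4.e3⟩,
  ⟨F4.e1, F4.e2, F4.e1, F4.e1, F4.e0, F4.e0⟩,
  ⟨F4.e1, F4.e3, F4.e1, F4.e2, F4.e3, F4.e2⟩,
  ⟨F4.e1, F4.e0, F4.e1, F4.e0, F4.e2, F4.e1⟩,
  ⟨F4.e1, F4.e3, F4.e0, F4.e3, F4.e0, F4.e3⟩,
  ⟨F4.e0, F4.e1, F4.e1, F4.e3, F4.e0, F4.e2⟩,
  ⟨F4.e1, F4.e0, F4.e3, F4.e2, F4.e0, F4.e1⟩,
  ⟨F4.e0, F4.e0, F4.e1, F4.e2, F4.e3, F4.e2⟩,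
  ⟨F4.e1, F4.e1, F4.e1, F4.e0, F4.e3, F4.e0⟩,
  ⟨F4.e1, F4.e3, F4.e2, F4.e3, F4.e0, F4.e0⟩,
  ⟨F4.e1, F4.e3, F4.e3, F4.e0, F4.e2, F4.e0⟩,
  ⟨F4.e1, F4.e2, F4.e3, F4.e0, F4.e0, F4.e1⟩,
  ⟨F4.e0, F4.e1, F4.e1, F4.e3, F4.e0, F4.e1⟩,
  ⟨F4.e1, F4.e3, F4.e1, F4.e2, F4.e1, F4.e1⟩,
  ⟨F4.e1, F4.e1, F4.e3, F4.e0, F4.e1, F4.e0⟩,
  ⟨F4.e0, F4.e1, F4.e2, F4.e0, F4.e2, F4.e2⟩,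
  ⟨F4.e0, F4.e1, F4.e1, F4.e2, F4.e0, F4.e1⟩,
  ⟨F4.e1, F4.e3, F4.e0, F4.e0, F4.e2, F4.e3⟩,
  ⟨F4.e1, F4.e3, F4.e1, F4.e1, F4.e3, F4.e1⟩,
  ⟨F4.e1, F4.e1, F4.e2, F4.e0, F4.e1, F4.e0⟩,
  ⟨F4.e1, F4.e3, F4.e2, F4.e2, F4.e1, F4.e2⟩,
  ⟨F4.e1, F4.e3, F4.e1, F4.e3, F4.e2, F4.e1⟩,
  ⟨F4.e0, F4.e1, F4.e1, F4.e3, F4.e3, F4.e0⟩,
  ⟨F4.e0, F4.e0, F4.e1, F4.e0, F4.e2, F4.e0⟩,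
  ⟨F4.e1, F4.e2, F4.e3, F4.e2, F4.e1, F4.e1⟩,
  ⟨F4.e1, F4.e1, F4.e3, F4.e3, F4.e2, F4.e1⟩,
  ⟨F4.e1, F4.e3, F4.e3, F4.e2, F4.e1, F4.e3⟩,
  ⟨F4.e1, F4.e2, F4.e3, F4.e1, F4.e1, F4.e3⟩,
  ⟨F4.e1, F4.e3, F4.e0, F4.e2, F4.e0, F4.e2⟩,
  ⟨F4.e0, F4.e1, F4.e0, F4.e2, F4.e1, F4.e1⟩,
  ⟨F4.e1, F4.e2, F4.e1, F4.e2, F4.e2, F4.e3⟩,
  ⟨F4.e1, F4.e2, F4.e2, F4.e2, F4.e3, F4.e1⟩,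
  ⟨F4.e1, F4.e3, F4.e3, F4.e1, F4.e3, F4.e3⟩,
  ⟨F4.e1, F4.e2, F4.e2, F4.e0, F4.e3, F4.e0⟩,
  ⟨F4.e0, F4.e0, F4.e0, F4.e1, F4.e0, F4.e2⟩,
  ⟨F4.e1, F4.e1, F4.e3, F4.e3, F4.e2, F4.e2⟩,
  ⟨F4.e1, F4.e2, F4.e1, F4.e2, F4.e2, F4.e1⟩,
  ⟨F4.e1, F4.e1, F4.e1, F4.e1, F4.e0, F4.e0⟩,
  ⟨F4.e1, F4.e1, F4.e1, F4.e0, F4.e0, F4.e3⟩,
  ⟨F4.e0, F4.e1, F4.e1, F4.e1, F4.e2, F4.e0⟩,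
  ⟨F4.e0, F4.e1, F4.e1, F4.e0, F4.e0, F4.e0⟩,
  ⟨F4.e1, F4.e2, F4.e0, F4.e1, F4.e1, F4.e0⟩,
  ⟨F4.e0, F4.e1, F4.e3, F4.e2, F4.e1, F4.e0⟩,
  ⟨F4.e1, F4.e1, F4.e1, F4.e1, F4.e3, F4.e3⟩,
  ⟨F4.e1, F4.e2, F4.e2, F4.e3, F4.e3, F4.e2⟩,
  ⟨F4.e1, F4.e3, F4.e3, F4.e1, F4.e2, F4.e2⟩,
  ⟨F4.e1, F4.e0, F4.e0, F4.e1, F4.e3, F4.e3⟩,
  ⟨F4.e1, F4.e2, F4.e0, F4.e3, F4.e0, F4.e2⟩,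
  ⟨F4.e0, F4.e1, F4.e0, F4.e1, F4.e2, F4.e2⟩,
  ⟨F4.e1, F4.e3, F4.e2, F4.e2, F4.e1, F4.e3⟩,
  ⟨F4.e1, F4.e0, F4.e3, F4.e0, F4.e2, F4.e2⟩,
  ⟨F4.e1, F4.e3, F4.e0, F4.e1, F4.e0, F4.e2⟩,
  ⟨F4.e1, F4.e3, F4.e1, F4.e0, F4.e1, F4.e0⟩,
  ⟨F4.e1, F4.e0, F4.e1, F4.e1, F4.e1, F4.e0⟩,
  ⟨F4.e1, F4.e3, F4.e2, F4.e0, F4.e3, F4.e0⟩,
  ⟨F4.e1, F4.e1, F4.e1, F4.e0, F4.e0, F4.e2⟩,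
  ⟨F4.e1, F4.e1, F4.e2, F4.e1, F4.e1, F4.e3⟩,
  ⟨F4.e1, F4.e3, F4.e1, F4.e1, F4.e2, F4.e2⟩,
  ⟨F4.e1, F4.e3, F4.e3, F4.e0, F4.e1, F4.e0⟩,
  ⟨F4.e1, F4.e2, F4.e0, F4.e0, F4.e2, F4.e1⟩,
  ⟨F4.e1, F4.e2, F4.e3, F4.e3, F4.e3, F4.e3⟩,
  ⟨F4.e0, F4.e0, F4.e1, F4.e1, F4.e2, F4.e2⟩,
  ⟨F4.e1, F4.e3, F4.e0, F4.e3, F4.e1, F4.e0⟩,
  ⟨F4.e1, F4.e3, F4.e2, F4.e1, F4.e2, F4.e2⟩,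
  ⟨F4.e1, F4.e2, F4.e2, F4.e2, F4.e1, F4.e3⟩,
  ⟨F4.e1, F4.e1, F4.e3, F4.e1, F4.e1, F4.e2⟩,
  ⟨F4.e1, F4.e0, F4.e0, F4.e2, F4.e3, F4.e2⟩,
  ⟨F4.e1, F4.e0, F4.e0, F4.e0, F4.e0, F4.e2⟩,
  ⟨F4.e0, F4.e1, F4.e2, F4.e1, F4.e0, F4.e1⟩,
  ⟨F4.e1, F4.e0, F4.e1, F4.e0, F4.e1, F4.e2⟩,
  ⟨F4.e1, F4.e2, F4.e3, F4.e3, F4.e1, F4.e1⟩,
  ⟨F4.e0, F4.e1, F4.e0, F4.e1, F4.e3, F4.e2⟩,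
  ⟨F4.e1, F4.e2, F4.e2, F4.e2, F4.e2, F4.e2⟩,
  ⟨F4.e1, F4.e3, F4.e1, F4.e3, F4.e1, F4.e2⟩,
  ⟨F4.e1, F4.e0, F4.e3, F4.e2, F4.e0, F4.e3⟩,
  ⟨F4.e1, F4.e0, F4.e0, F4.e3, F4.e1, F4.e2⟩,
  ⟨F4.e1, F4.e0, F4.e2, F4.e3, F4.e2, F4.e0⟩,
  ⟨F4.e0, F4.e1, F4.e2, F4.e3, F4.e1, F4.e0⟩,
  ⟨F4.e1, F4.e3, F4.e1, F4.e3, F4.e1, F4.e3⟩,
  ⟨F4.e1, F4.e2, F4.e2, F4.e1, F4.e1, F4.e2⟩,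
  ⟨F4.e1, F4.e2, F4.e3, F4.e2, F4.e3, F4.e2⟩,
  ⟨F4.e1, F4.e1, F4.e2, F4.e2, F4.e3, F4.e2⟩,
  ⟨F4.e1, F4.e1, F4.e1, F4.e2, F4.e2, F4.e2⟩,
  ⟨F4.e1, F4.e0, F4.e0, F4.e1, F4.e3, F4.e1⟩,
  ⟨F4.e1, F4.e1, F4.e2, F4.e0, F4.e3, F4.e0⟩,
  ⟨F4.e0, F4.e1, F4.e3, F4.e0, F4.e3, F4.e1⟩,
  ⟨F4.e1, F4.e1, F4.e1, F4.e3, F4.e2, F4.e3⟩,
  ⟨F4.e1, F4.e1, F4.e3, F4.e1, F4.e1, F4.e1⟩,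
  ⟨F4.e1, F4.e0, F4.e3, F4.e2, F4.e2, F4.e0⟩,
  ⟨F4.e1, F4.e1, F4.e3, F4.e1, F4.e3, F4.e2⟩,
  ⟨F4.e0, F4.e1, F4.e3, F4.e1, F4.e0, F4.e2⟩,
  ⟨F4.e1, F4.e0, F4.e0, F4.e1, F4.e1, F4.e2⟩,
  ⟨F4.e1, F4.e2, F4.e2, F4.e1, F4.e2, F4.e3⟩,
  ⟨F4.e1, F4.e2, F4.e3, F4.e3, F4.e3, F4.e2⟩,
  ⟨F4.e1, F4.e1, F4.e2, F4.e1, F4.e3, F4.e1⟩,
  ⟨F4.e0, F4.e1, F4.e2, F4.e3, F4.e0, F4.e3⟩,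
  ⟨F4.e1, F4.e1, F4.e3, F4.e0, F4.e0, F4.e2⟩,
  ⟨F4.e1, F4.e3, F4.e1, F4.e3, F4.e3, F4.e3⟩,
  ⟨F4.e1, F4.e3, F4.e1, F4.e0, F4.e3, F4.e0⟩,
  ⟨F4.e1, F4.e0, F4.e1, F4.e1, F4.e0, F4.e3⟩,
  ⟨F4.e1, F4.e0, F4.e3, F4.e2, F4.e3, F4.e0⟩,
  ⟨F4.e1, F4.e3, F4.e0, F4.e2, F4.e0, F4.e3⟩,
  ⟨F4.e1, F4.e3, F4.e3, F4.e0, F4.e0, F4.e2⟩,
  ⟨F4.e0, F4.e1, F4.e1, F4.e1, F4.e1, F4.e0⟩,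
  ⟨F4.e1, F4.e3, F4.e1, F4.e1, F4.e3, F4.e3⟩,
  ⟨F4.e1, F4.e2, F4.e1, F4.e2, F4.e1, F4.e2⟩,
  ⟨F4.e1, F4.e0, F4.e2, F4.e0, F4.e1, F4.e3⟩,
  ⟨F4.e1, F4.e1, F4.e0, F4.e3, F4.e3, F4.e0⟩,
  ⟨F4.e0, F4.e1, F4.e0, F4.e2, F4.e1, F4.e3⟩,
  ⟨F4.e1, F4.e1, F4.e1, F4.e2, F4.e2, F4.e1⟩,
  ⟨F4.e1, F4.e0, F4.e3, F4.e0, F4.e3, F4.e2⟩,
  ⟨F4.e1, F4.e1, F4.e1, F4.e3, F4.e1, F4.e2⟩,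
  ⟨F4.e1, F4.e0, F4.e2, F4.e3, F4.e0, F4.e3⟩,
  ⟨F4.e1, F4.e2, F4.e3, F4.e3, F4.e2, F4.e1⟩,
  ⟨F4.e1, F4.e3, F4.e1, F4.e2, F4.e2, F4.e3⟩,
  ⟨F4.e1, F4.e3, F4.e2, F4.e2, F4.e2, F4.e2⟩,
  ⟨F4.e1, F4.e0, F4.e0, F4.e2, F4.e2, F4.e2⟩,
  ⟨F4.e1, F4.e3, F4.e1, F4.e1, F4.e0, F4.e0⟩,
  ⟨F4.e1, F4.e2, F4.e1, F4.e3, F4.e1, F4.e3⟩,
  ⟨F4.e1, F4.e3, F4.e2, F4.e2, F4.e3, F4.e3⟩,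
  ⟨F4.e0, F4.e1, F4.e3, F4.e3, F4.e1, F4.e0⟩,
  ⟨F4.e1, F4.e0, F4.e2, F4.e0, F4.e1, F4.e1⟩,
  ⟨F4.e0, F4.e0, F4.e1, F4.e3, F4.e2, F4.e1⟩,
  ⟨F4.e1, F4.e2, F4.e0, F4.e2, F4.e1, F4.e0⟩,
  ⟨F4.e1, F4.e3, F4.e1, F4.e0, F4.e0, F4.e1⟩,
  ⟨F4.e1, F4.e1, F4.e2, F4.e1, F4.e2, F4.e1⟩,
  ⟨F4.e0, F4.e0, F4.e1, F4.e0, F4.e0, F4.e3⟩,
  ⟨F4.e1, F4.e3, F4.e0, F4.e3, F4.e2, F4.e0⟩,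
  ⟨F4.e1, F4.e3, F4.e3, F4.e1, F4.e1, F4.e3⟩,
  ⟨F4.e1, F4.e3, F4.e0, F4.e1, F4.e1, F4.e0⟩,
  ⟨F4.e0, F4.e0, F4.e0, F4.e1, F4.e1, F4.e0⟩,
  ⟨F4.e0, F4.e1, F4.e0, F4.e3, F4.e1, F4.e1⟩,
  ⟨F4.e1, F4.e2, F4.e0, F4.e1, F4.e3, F4.e0⟩,
  ⟨F4.e1, F4.e1, F4.e3, F4.e1, F4.e2, F4.e1⟩,
  ⟨F4.e0, F4.e1, F4.e1, F4.e2, F4.e2, F4.e0⟩,
  ⟨F4.e1, F4.e1, F4.e2, F4.e3, F4.e3, F4.e2⟩,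
  ⟨F4.e1, F4.e2, F4.e1, F4.e2, F4.e3, F4.e3⟩,
  ⟨F4.e1, F4.e1, F4.e1, F4.e3, F4.e3, F4.e3⟩,
  ⟨F4.e1, F4.e2, F4.e1, F4.e2, F4.e1, F4.e1⟩,
  ⟨F4.e1, F4.e2, F4.e2, F4.e3, F4.e0, F4.e0⟩,
  ⟨F4.e0, F4.e0, F4.e1, F4.e1, F4.e1, F4.e3⟩,
  ⟨F4.e1, F4.e2, F4.e3, F4.e1, F4.e3, F4.e3⟩,
  ⟨F4.e1, F4.e0, F4.e1, F4.e1, F4.e0, F4.e1⟩,
  ⟨F4.e1, F4.e2, F4.e0, F4.e0, F4.e3, F4.e1⟩,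
  ⟨F4.e1, F4.e1, F4.e1, F4.e3, F4.e3, F4.e2⟩,
  ⟨F4.e1, F4.e1, F4.e0, F4.e1, F4.e1, F4.e0⟩,
  ⟨F4.e1, F4.e3, F4.e2, F4.e1, F4.e3, F4.e2⟩,
  ⟨F4.e1, F4.e0, F4.e2, F4.e3, F4.e1, F4.e0⟩,
  ⟨F4.e1, F4.e2, F4.e3, F4.e3, F4.e1, F4.e2⟩,
  ⟨F4.e1, F4.e1, F4.e0, F4.e2, F4.e1, F4.e0⟩,
  ⟨F4.e0, F4.e1, F4.e3, F4.e0, F4.e1, F4.e1⟩,
  ⟨F4.e1, F4.e3, F4.e2, F4.e1, F4.e1, F4.e1⟩,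
  ⟨F4.e0, F4.e0, F4.e1, F4.e1, F4.e3, F4.e1⟩,
  ⟨F4.e1, F4.e3, F4.e0, F4.e2, F4.e2, F4.e0⟩,
  ⟨F4.e1, F4.e1, F4.e2, F4.e2, F4.e3, F4.e1⟩,
  ⟨F4.e1, F4.e3, F4.e3, F4.e3, F4.e3, F4.e2⟩,
  ⟨F4.e1, F4.e0, F4.e0, F4.e2, F4.e3, F4.e1⟩,
  ⟨F4.e1, F4.e3, F4.e3, F4.e3, F4.e1, F4.e1⟩,
  ⟨F4.e0, F4.e1, F4.e1, F4.e1, F4.e0, F4.e3⟩,
  ⟨F4.e1, F4.e3, F4.e0, F4.e0, F4.e0, F4.e0⟩,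
  ⟨F4.e1, F4.e3, F4.e2, F4.e3, F4.e1, F4.e3⟩,
  ⟨F4.e0, F4.e0, F4.e1, F4.e3, F4.e3, F4.e1⟩,
  ⟨F4.e1, F4.e2, F4.e2, F4.e2, F4.e2, F4.e3⟩,
  ⟨F4.e0, F4.e1, F4.e3, F4.e0, F4.e3, F4.e2⟩,
  ⟨F4.e1, F4.e3, F4.e0, F4.e3, F4.e0, F4.e1⟩,
  ⟨F4.e0, F4.e0, F4.e1, F4.e2, F4.e1, F4.e3⟩,
  ⟨F4.e1, F4.e0, F4.e1, F4.e0, F4.e2, F4.e2⟩,
  ⟨F4.e1, F4.e3, F4.e2, F4.e3, F4.e3, F4.e1⟩,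
  ⟨F4.e1, F4.e0, F4.e3, F4.e0, F4.e1, F4.e1⟩,
  ⟨F4.e0, F4.e1, F4.e0, F4.e2, F4.e2, F4.e2⟩,
  ⟨F4.e1, F4.e3, F4.e3, F4.e1, F4.e1, F4.e2⟩,
  ⟨F4.e0, F4.e0, F4.e1, F4.e3, F4.e3, F4.e3⟩,
  ⟨F4.e1, F4.e0, F4.e1, F4.e1, F4.e2, F4.e0⟩,
  ⟨F4.e1, F4.e2, F4.e1, F4.e3, F4.e1, F4.e1⟩,
  ⟨F4.e1, F4.e0, F4.e0, F4.e0, F4.e1, F4.e0⟩,
  ⟨F4.e0, F4.e1, F4.e2, F4.e3, F4.e2, F4.e0⟩,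
  ⟨F4.e1, F4.e1, F4.e3, F4.e2, F4.e0, F4.e0⟩,
  ⟨F4.e1, F4.e2, F4.e0, F4.e1, F4.e0, F4.e2⟩,
  ⟨F4.e1, F4.e1, F4.e0, F4.e0, F4.e1, F4.e3⟩,
  ⟨F4.e1, F4.e1, F4.e1, F4.e3, F4.e1, F4.e1⟩,
  ⟨F4.e0, F4.e0, F4.e1, F4.e1, F4.e2, F4.e1⟩,
  ⟨F4.e1, F4.e2, F4.e3, F4.e3, F4.e2, F4.e3⟩,
  ⟨F4.e0, F4.e1, F4.e3, F4.e0, F4.e1, F4.e3⟩,
  ⟨F4.e1, F4.e0, F4.e1, F4.e0, F4.e3, F4.e3⟩,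
  ⟨F4.e1, F4.e2, F4.e1, F4.e3, F4.e2, F4.e1⟩,
  ⟨F4.e1, F4.e3, F4.e1, F4.e0, F4.e0, F4.e3⟩,
  ⟨F4.e1, F4.e1, F4.e3, F4.e3, F4.e0, F4.e0⟩,
  ⟨F4.e1, F4.e0, F4.e1, F4.e2, F4.e0, F4.e3⟩,
  ⟨F4.e1, F4.e3, F4.e2, F4.e2, F4.e2, F4.e1⟩,
  ⟨F4.e1, F4.e0, F4.e2, F4.e0, F4.e3, F4.e1⟩,
  ⟨F4.e1, F4.e0, F4.e2, F4.e3, F4.e0, F4.e2⟩,
  ⟨F4.e0, F4.e1, F4.e1, F4.e0, F4.e1, F4.e1⟩,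
  ⟨F4.e1, F4.e0, F4.e0, F4.e2, F4.e1, F4.e3⟩,
  ⟨F4.e1, F4.e2, F4.e0, F4.e1, F4.e0, F4.e1⟩,
  ⟨F4.e0, F4.e1, F4.e2, F4.e3, F4.e0, F4.e2⟩,
  ⟨F4.e1, F4.e1, F4.e2, F4.e2, F4.e2, F4.e1⟩,
  ⟨F4.e0, F4.e0, F4.e0, F4.e1, F4.e0, F4.e3⟩,
  ⟨F4.e1, F4.e2, F4.e3, F4.e1, F4.e2, F4.e3⟩,
  ⟨F4.e1, F4.e0, F4.e0, F4.e3, F4.e2, F4.e2⟩,
  ⟨F4.e0, F4.e1, F4.e2, F4.e2, F4.e0, F4.e1⟩,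
  ⟨F4.e1, F4.e1, F4.e0, F4.e0, F4.e2, F4.e2⟩,
  ⟨F4.e0, F4.e1, F4.e0, F4.e2, F4.e3, F4.e1⟩,
  ⟨F4.e1, F4.e2, F4.e2, F4.e0, F4.e1, F4.e0⟩,
  ⟨F4.e0, F4.e1, F4.e0, F4.e3, F4.e3, F4.e1⟩,
  ⟨F4.e1, F4.e0, F4.e0, F4.e2, F4.e1, F4.e1⟩,
  ⟨F4.e0, F4.e1, F4.e3, F4.e0, F4.e2, F4.e2⟩,
  ⟨F4.e1, F4.e2, F4.e3, F4.e0, F4.e1, F4.e0⟩,
  ⟨F4.e1, F4.e0, F4.e2, F4.e1, F4.e2, F4.e0⟩,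
  ⟨F4.e0, F4.e1, F4.e1, F4.e2, F4.e1, F4.e0⟩,
  ⟨F4.e1, F4.e3, F4.e1, F4.e2, F4.e3, F4.e1⟩,
  ⟨F4.e1, F4.e3, F4.e1, F4.e1, F4.e1, F4.e3⟩,
  ⟨F4.e1, F4.e3, F4.e3, F4.e2, F4.e1, F4.e2⟩,
  ⟨F4.e1, F4.e0, F4.e3, F4.e3, F4.e0, F4.e3⟩,
  ⟨F4.e1, F4.e0, F4.e2, F4.e1, F4.e1, F4.e0⟩,
  ⟨F4.e1, F4.e3, F4.e0, F4.e1, F4.e0, F4.e1⟩,
  ⟨F4.e1, F4.e1, F4.e2, F4.e2, F4.e1, F4.e1⟩,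
  ⟨F4.e0, F4.e1, F4.e2, F4.e0, F4.e0, F4.e0⟩,
  ⟨F4.e1, F4.e1, F4.e2, F4.e3, F4.e1, F4.e2⟩,
  ⟨F4.e1, F4.e1, F4.e1, F4.e2, F4.e0, F4.e0⟩,
  ⟨F4.e1, F4.e1, F4.e0, F4.e0, F4.e2, F4.e3⟩,
  ⟨F4.e1, F4.e2, F4.e2, F4.e0, F4.e0, F4.e2⟩,
  ⟨F4.e0, F4.e1, F4.e3, F4.e3, F4.e2, F4.e0⟩,
  ⟨F4.e0, F4.e1, F4.e0, F4.e2, F4.e3, F4.e2⟩,
  ⟨F4.e1, F4.e3, F4.e1, F4.e0, F4.e2, F4.e0⟩,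
  ⟨F4.e0, F4.e1, F4.e2, F4.e1, F4.e0, F4.e3⟩,
  ⟨F4.e1, F4.e0, F4.e1, F4.e0, F4.e3, F4.e2⟩,
  ⟨F4.e1, F4.e0, F4.e0, F4.e0, F4.e3, F4.e0⟩,
  ⟨F4.e1, F4.e0, F4.e0, F4.e3, F4.e3, F4.e2⟩,
  ⟨F4.e1, F4.e1, F4.e0, F4.e2, F4.e0, F4.e2⟩,
  ⟨F4.e1, F4.e1, F4.e0, F4.e1, F4.e3, F4.e0⟩,
  ⟨F4.e1, F4.e2, F4.e0, F4.e2, F4.e3, F4.e0⟩,
  ⟨F4.e1, F4.e1, F4.e2, F4.e1, F4.e3, F4.e3⟩,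
  ⟨F4.e1, F4.e0, F4.e3, F4.e0, F4.e3, F4.e1⟩,
  ⟨F4.e1, F4.e3, F4.e0, F4.e3, F4.e3, F4.e0⟩,
  ⟨F4.e0, F4.e1, F4.e3, F4.e1, F4.e0, F4.e1⟩,
  ⟨F4.e1, F4.e1, F4.e1, F4.e1, F4.e3, F4.e2⟩,
  ⟨F4.e1, F4.e2, F4.e3, F4.e2, F4.e3, F4.e1⟩,
  ⟨F4.e1, F4.e3, F4.e2, F4.e3, F4.e3, F4.e3⟩,
  ⟨F4.e1, F4.e3, F4.e1, F4.e3, F4.e3, F4.e2⟩,
  ⟨F4.e1, F4.e1, F4.e3, F4.e1, F4.e3, F4.e1⟩,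
  ⟨F4.e1, F4.e2, F4.e2, F4.e2, F4.e3, F4.e3⟩,
  ⟨F4.e1, F4.e0, F4.e2, F4.e0, F4.e3, F4.e3⟩,
  ⟨F4.e0, F4.e0, F4.e1, F4.e0, F4.e0, F4.e2⟩,
  ⟨F4.e1, F4.e3, F4.e3, F4.e3, F4.e3, F4.e1⟩,
  ⟨F4.e1, F4.e1, F4.e1, F4.e1, F4.e1, F4.e2⟩,
  ⟨F4.e0, F4.e1, F4.e0, F4.e1, F4.e0, F4.e0⟩,
  ⟨F4.e0, F4.e1, F4.e1, F4.e0, F4.e3, F4.e1⟩,
  ⟨F4.e1, F4.e2, F4.e1, F4.e2, F4.e3, F4.e2⟩,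
  ⟨F4.e0, F4.e1, F4.e1, F4.e1, F4.e0, F4.e2⟩,
  ⟨F4.e1, F4.e2, F4.e3, F4.e0, F4.e3, F4.e0⟩,
  ⟨F4.e1, F4.e3, F4.e2, F4.e0, F4.e0, F4.e1⟩,
  ⟨F4.e1, F4.e3, F4.e3, F4.e2, F4.e2, F4.e2⟩,
  ⟨F4.e0, F4.e0, F4.e1, F4.e2, F4.e2, F4.e3⟩]

/-- Schreier tree: parent, generator, scalar. -/
def tree : List (ℕ × U6P.Gen × F4) := [
  (0, .c, F4.e1),
  (0, .d, F4.e2),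
  (1, .c, F4.e2),
  (1, .e, F4.e1),
  (1, .h, F4.e3),
  (2, .e, F4.e3),
  (2, .h, F4.e2),
  (3, .f, F4.e2),
  (3, .h, F4.e1),
  (4, .i, F4.e1),
  (5, .d, F4.e1),
  (5, .f, F4.e2),
  (5, .h, F4.e1),
  (6, .d, F4.e3),
  (6, .i, F4.e1),
  (7, .g, F4.e2),
  (7, .h, F4.e1),
  (7, .w, F4.e2),
  (8, .d, F4.e1),
  (8, .i, F4.e2),
  (9, .w, F4.e3),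
  (10, .f, F4.e2),
  (11, .g, F4.e2),
  (11, .h, F4.e1),
  (11, .w, F4.e2),
  (12, .i, F4.e2),
  (13, .i, F4.e2),
  (14, .w, F4.e1),
  (15, .h, F4.e1),
  (15, .w, F4.e3),
  (16, .d, F4.e1),
  (16, .i, F4.e3),
  (16, .w, F4.e2),
  (17, .i, F4.e3),
  (18, .i, F4.e2),
  (19, .w, F4.e3),
  (20, .f, F4.e1),
  (21, .e, F4.e2),
  (21, .g, F4.e2),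
  (21, .w, F4.e2),
  (22, .h, F4.e1),
  (22, .w, F4.e3),
  (23, .i, F4.e3),
  (23, .w, F4.e2),
  (24, .i, F4.e3),
  (25, .w, F4.e3),
  (26, .h, F4.e1),
  (26, .w, F4.e2),
  (27, .f, F4.e3),
  (28, .d, F4.e1),
  (28, .i, F4.e1),
  (28, .w, F4.e3),
  (29, .f, F4.e3),
  (29, .i, F4.e2),
  (30, .e, F4.e2),
  (30, .i, F4.e3),
  (30, .w, F4.e2),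
  (31, .w, F4.e3),
  (32, .i, F4.e2),
  (33, .h, F4.e1),
  (34, .h, F4.e1),
  (34, .w, F4.e3),
  (35, .f, F4.e1),
  (36, .e, F4.e1),
  (36, .g, F4.e3),
  (37, .g, F4.e3),
  (37, .w, F4.e3),
  (38, .w, F4.e3),
  (39, .i, F4.e3),
  (40, .i, F4.e1),
  (40, .w, F4.e3),
  (41, .f, F4.e3),
  (41, .i, F4.e2),
  (42, .w, F4.e3),
  (43, .i, F4.e2),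
  (44, .h, F4.e1),
  (45, .f, F4.e2),
  (46, .w, F4.e1),
  (47, .f, F4.e2),
  (48, .e, F4.e3),
  (48, .g, F4.e3),
  (49, .e, F4.e3),
  (49, .i, F4.e2),
  (49, .w, F4.e3),
  (50, .w, F4.e3),
  (51, .f, F4.e3),
  (51, .i, F4.e1),
  (52, .e, F4.e3),
  (52, .i, F4.e3),
  (53, .h, F4.e1),
  (54, .i, F4.e3),
  (54, .w, F4.e3),
  (55, .h, F4.e1),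
  (55, .w, F4.e3),
  (56, .i, F4.e2),
  (57, .f, F4.e2),
  (57, .i, F4.e3),
  (58, .h, F4.e1),
  (59, .d, F4.e1),
  (60, .w, F4.e3),
  (61, .f, F4.e3),
  (62, .e, F4.e3),
  (62, .g, F4.e2),
  (63, .d, F4.e3),
  (63, .g, F4.e2),
  (65, .f, F4.e3),
  (65, .w, F4.e2),
  (66, .f, F4.e3),
  (66, .i, F4.e2),
  (67, .f, F4.e3),
  (67, .i, F4.e2),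
  (68, .h, F4.e1),
  (69, .w, F4.e3),
  (70, .f, F4.e3),
  (70, .i, F4.e3),
  (71, .e, F4.e1),
  (71, .i, F4.e2),
  (72, .h, F4.e1),
  (73, .f, F4.e2),
  (73, .i, F4.e3),
  (74, .h, F4.e1),
  (75, .d, F4.e1),
  (76, .e, F4.e2),
  (76, .g, F4.e1),
  (78, .g, F4.e3),
  (79, .d, F4.e1),
  (79, .g, F4.e3),
  (81, .f, F4.e3),
  (81, .i, F4.e3),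
  (81, .w, F4.e2),
  (82, .h, F4.e3),
  (82, .w, F4.e2),
  (83, .f, F4.e3),
  (83, .i, F4.e1),
  (84, .f, F4.e2),
  (84, .i, F4.e2),
  (85, .e, F4.e1),
  (85, .i, F4.e3),
  (86, .h, F4.e3),
  (87, .d, F4.e2),
  (87, .i, F4.e2),
  (88, .h, F4.e3),
  (88, .w, F4.e2),
  (89, .d, F4.e1),
  (90, .h, F4.e2),
  (90, .w, F4.e1),
  (91, .f, F4.e3),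
  (91, .i, F4.e2),
  (92, .w, F4.e3),
  (93, .f, F4.e2),
  (93, .i, F4.e3),
  (94, .h, F4.e1),
  (95, .e, F4.e2),
  (95, .g, F4.e3),
  (95, .i, F4.e2),
  (96, .h, F4.e1),
  (97, .d, F4.e1),
  (98, .c, F4.e1),
  (98, .e, F4.e3),
  (100, .g, F4.e3),
  (101, .d, F4.e1),
  (101, .g, F4.e2),
  (103, .c, F4.e3),
  (103, .g, F4.e3),
  (103, .h, F4.e2),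
  (104, .f, F4.e3),
  (106, .i, F4.e3),
  (109, .i, F4.e2),
  (110, .h, F4.e1),
  (111, .d, F4.e1),
  (112, .f, F4.e2),
  (112, .i, F4.e2),
  (113, .e, F4.e2),
  (113, .i, F4.e3),
  (114, .h, F4.e2),
  (115, .i, F4.e1),
  (116, .h, F4.e3),
  (116, .w, F4.e3),
  (117, .d, F4.e1),
  (118, .e, F4.e2),
  (118, .g, F4.e3),
  (118, .i, F4.e3),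
  (119, .h, F4.e1),
  (121, .c, F4.e1),
  (122, .g, F4.e2),
  (125, .c, F4.e1),
  (125, .g, F4.e3),
  (126, .f, F4.e3),
  (127, .i, F4.e2),
  (128, .h, F4.e1),
  (128, .w, F4.e3),
  (129, .i, F4.e2),
  (130, .w, F4.e3),
  (131, .f, F4.e2),
  (131, .i, F4.e2),
  (132, .i, F4.e3),
  (133, .h, F4.e3),
  (134, .e, F4.e2),
  (134, .g, F4.e3),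
  (134, .i, F4.e3),
  (135, .h, F4.e1),
  (136, .i, F4.e2),
  (137, .h, F4.e1),
  (137, .w, F4.e2),
  (138, .d, F4.e3),
  (139, .i, F4.e1),
  (140, .h, F4.e1),
  (140, .w, F4.e2),
  (141, .d, F4.e2),
  (141, .w, F4.e3),
  (143, .c, F4.e1),
  (143, .e, F4.e2),
  (144, .d, F4.e3),
  (144, .w, F4.e3),
  (145, .f, F4.e2),
  (145, .i, F4.e2),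
  (149, .e, F4.e3),
  (149, .g, F4.e3),
  (149, .i, F4.e2),
  (151, .d, F4.e1),
  (152, .d, F4.e1),
  (152, .g, F4.e3),
  (153, .i, F4.e3),
  (155, .d, F4.e1),
  (156, .e, F4.e2),
  (157, .e, F4.e3),
  (158, .f, F4.e3),
  (160, .g, F4.e2),
  (161, .f, F4.e3),
  (162, .g, F4.e1),
  (162, .h, F4.e2),
  (163, .f, F4.e3),
  (163, .h, F4.e1),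
  (165, .w, F4.e2),
  (167, .h, F4.e3),
  (167, .w, F4.e3),
  (168, .d, F4.e1),
  (169, .c, F4.e1),
  (170, .e, F4.e2),
  (170, .g, F4.e2),
  (170, .i, F4.e3),
  (171, .h, F4.e1),
  (172, .d, F4.e1),
  (172, .i, F4.e1),
  (173, .h, F4.e1),
  (173, .w, F4.e2),
  (174, .d, F4.e3),
  (175, .h, F4.e1),
  (175, .w, F4.e1),
  (176, .d, F4.e2),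
  (176, .w, F4.e1),
  (178, .c, F4.e1),
  (178, .e, F4.e2),
  (184, .f, F4.e3),
  (185, .g, F4.e3),
  (186, .f, F4.e3),
  (187, .w, F4.e3),
  (188, .h, F4.e1),
  (188, .w, F4.e3),
  (189, .d, F4.e1),
  (189, .w, F4.e3),
  (190, .f, F4.e2),
  (190, .i, F4.e3),
  (192, .f, F4.e2),
  (192, .i, F4.e3),
  (193, .e, F4.e3),
  (193, .g, F4.e2),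
  (193, .i, F4.e3),
  (194, .h, F4.e1),
  (195, .h, F4.e1),
  (195, .w, F4.e2),
  (196, .d, F4.e2),
  (197, .d, F4.e1),
  (197, .g, F4.e2),
  (197, .i, F4.e3),
  (198, .i, F4.e3),
  (199, .h, F4.e1),
  (199, .w, F4.e2),
  (200, .d, F4.e1),
  (201, .h, F4.e1),
  (201, .w, F4.e2),
  (202, .d, F4.e1),
  (202, .w, F4.e2),
  (204, .c, F4.e2),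
  (204, .e, F4.e1),
  (205, .h, F4.e1),
  (205, .w, F4.e3),
  (206, .d, F4.e1),
  (206, .w, F4.e3),
  (207, .f, F4.e2),
  (208, .c, F4.e3),
  (208, .e, F4.e3),
  (208, .w, F4.e2),
  (209, .i, F4.e3),
  (210, .e, F4.e2),
  (211, .f, F4.e1),
  (212, .c, F4.e3),
  (212, .w, F4.e1),
  (213, .f, F4.e2),
  (213, .i, F4.e1),
  (216, .d, F4.e1),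
  (217, .i, F4.e3),
  (219, .c, F4.e1),
  (221, .f, F4.e1),
  (226, .g, F4.e2),
  (227, .f, F4.e3),
  (228, .w, F4.e2),
  (229, .f, F4.e3),
  (229, .h, F4.e1),
  (231, .e, F4.e1),
  (231, .h, F4.e1),
  (231, .w, F4.e3),
  (233, .i, F4.e3),
  (234, .d, F4.e3),
  (234, .w, F4.e1),
  (236, .c, F4.e1),
  (238, .d, F4.e1),
  (238, .g, F4.e2),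
  (238, .i, F4.e3),
  (239, .i, F4.e1),
  (240, .h, F4.e1),
  (240, .w, F4.e2),
  (243, .h, F4.e1),
  (244, .d, F4.e1),
  (244, .w, F4.e2),
  (247, .d, F4.e1),
  (247, .w, F4.e1),
  (248, .f, F4.e3),
  (249, .c, F4.e2),
  (253, .w, F4.e2),
  (254, .f, F4.e3),
  (257, .d, F4.e1),
  (257, .w, F4.e3),
  (258, .f, F4.e1),
  (259, .c, F4.e1),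
  (259, .w, F4.e3),
  (260, .f, F4.e2),
  (260, .i, F4.e2),
  (261, .e, F4.e3),
  (261, .g, F4.e3),
  (261, .i, F4.e1),
  (263, .e, F4.e1),
  (264, .h, F4.e2),
  (265, .d, F4.e3),
  (265, .g, F4.e2),
  (265, .i, F4.e3),
  (266, .i, F4.e1),
  (267, .h, F4.e1),
  (267, .w, F4.e2),
  (268, .d, F4.e1),
  (269, .d, F4.e1),
  (269, .w, F4.e2),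
  (271, .c, F4.e2),
  (272, .c, F4.e1),
  (272, .g, F4.e2),
  (272, .h, F4.e1),
  (272, .i, F4.e1),
  (273, .f, F4.e2),
  (273, .i, F4.e2),
  (274, .h, F4.e1),
  (276, .d, F4.e1),
  (279, .d, F4.e1),
  (281, .c, F4.e1),
  (281, .e, F4.e2),
  (281, .w, F4.e2),
  (284, .f, F4.e3),
  (285, .d, F4.e1),
  (285, .w, F4.e3),
  (286, .f, F4.e1),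
  (287, .c, F4.e1),
  (287, .e, F4.e2),
  (287, .w, F4.e1),
  (288, .f, F4.e1),
  (288, .i, F4.e3),
  (289, .g, F4.e3),
  (290, .e, F4.e1),
  (291, .f, F4.e3),
  (291, .w, F4.e2),
  (294, .f, F4.e1),
  (295, .g, F4.e2),
  (295, .w, F4.e3),
  (305, .e, F4.e2),
  (305, .w, F4.e2),
  (307, .e, F4.e2),
  (307, .h, F4.e1),
  (309, .h, F4.e3),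
  (309, .w, F4.e1),
  (310, .w, F4.e2),
  (316, .g, F4.e2),
  (316, .h, F4.e1),
  (317, .f, F4.e2),
  (317, .i, F4.e2),
  (318, .h, F4.e3),
  (323, .w, F4.e2),
  (331, .c, F4.e1),
  (331, .e, F4.e2),
  (331, .w, F4.e3),
  (332, .f, F4.e2),
  (332, .i, F4.e2),
  (333, .e, F4.e2),
  (333, .g, F4.e2),
  (335, .f, F4.e2),
  (336, .e, F4.e3),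
  (336, .g, F4.e3),
  (336, .i, F4.e3),
  (338, .d, F4.e1),
  (338, .g, F4.e2),
  (338, .i, F4.e3),
  (341, .d, F4.e2),
  (343, .c, F4.e3),
  (343, .g, F4.e3),
  (343, .h, F4.e2),
  (343, .i, F4.e1),
  (344, .f, F4.e3),
  (344, .i, F4.e3),
  (345, .w, F4.e3),
  (346, .w, F4.e1),
  (347, .d, F4.e1),
  (347, .w, F4.e2),
  (350, .c, F4.e1),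
  (350, .e, F4.e2),
  (350, .w, F4.e2),
  (351, .i, F4.e3),
  (353, .g, F4.e2),
  (353, .h, F4.e1),
  (354, .f, F4.e3),
  (354, .h, F4.e1),
  (354, .i, F4.e2),
  (355, .i, F4.e2),
  (356, .h, F4.e3),
  (360, .e, F4.e2),
  (361, .e, F4.e3),
  (362, .e, F4.e2),
  (362, .w, F4.e2),
  (363, .f, F4.e3),
  (363, .w, F4.e3),
  (365, .w, F4.e2),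
  (366, .c, F4.e1),
  (366, .e, F4.e2),
  (366, .w, F4.e2),
  (367, .f, F4.e1),
  (367, .i, F4.e2),
  (368, .e, F4.e3),
  (368, .g, F4.e3),
  (369, .e, F4.e2),
  (370, .f, F4.e2),
  (370, .w, F4.e2),
  (375, .f, F4.e2),
  (376, .g, F4.e3),
  (376, .w, F4.e2),
  (377, .f, F4.e3),
  (378, .w, F4.e3),
  (379, .w, F4.e3),
  (380, .i, F4.e3),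
  (381, .w, F4.e3),
  (383, .h, F4.e1),
  (385, .d, F4.e2),
  (385, .w, F4.e2),
  (386, .f, F4.e2),
  (387, .i, F4.e1),
  (394, .e, F4.e2),
  (394, .w, F4.e3),
  (395, .w, F4.e2),
  (396, .f, F4.e3),
  (396, .i, F4.e2),
  (397, .e, F4.e1),
  (397, .g, F4.e1),
  (397, .i, F4.e2),
  (399, .d, F4.e1),
  (399, .g, F4.e3),
  (401, .e, F4.e2),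
  (402, .d, F4.e1),
  (402, .g, F4.e2),
  (402, .i, F4.e2),
  (404, .w, F4.e1),
  (405, .c, F4.e1),
  (405, .g, F4.e2),
  (405, .h, F4.e1),
  (405, .i, F4.e3),
  (408, .c, F4.e3),
  (408, .h, F4.e2),
  (409, .g, F4.e1),
  (409, .h, F4.e2),
  (410, .f, F4.e3),
  (410, .h, F4.e1),
  (410, .i, F4.e3),
  (411, .i, F4.e2),
  (412, .h, F4.e1),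
  (413, .w, F4.e2),
  (414, .w, F4.e2),
  (417, .e, F4.e2),
  (417, .w, F4.e2),
  (418, .i, F4.e2),
  (419, .e, F4.e2),
  (419, .w, F4.e2),
  (420, .w, F4.e3),
  (421, .i, F4.e3),
  (423, .h, F4.e1),
  (424, .d, F4.e1),
  (424, .i, F4.e2),
  (425, .e, F4.e2),
  (425, .h, F4.e1),
  (426, .i, F4.e3),
  (428, .h, F4.e1),
  (428, .w, F4.e3),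
  (431, .f, F4.e3),
  (432, .w, F4.e3),
  (434, .w, F4.e3),
  (435, .f, F4.e3),
  (436, .i, F4.e2),
  (437, .e, F4.e2),
  (438, .f, F4.e3),
  (438, .w, F4.e2),
  (439, .i, F4.e3),
  (440, .e, F4.e3),
  (440, .i, F4.e3),
  (442, .g, F4.e2),
  (444, .f, F4.e3),
  (445, .g, F4.e1),
  (445, .w, F4.e3),
  (446, .f, F4.e3),
  (447, .w, F4.e3),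
  (448, .w, F4.e2),
  (449, .f, F4.e3),
  (449, .i, F4.e2),
  (450, .g, F4.e1),
  (451, .i, F4.e3),
  (452, .i, F4.e1),
  (453, .h, F4.e1),
  (454, .f, F4.e2),
  (455, .d, F4.e2),
  (456, .w, F4.e1),
  (457, .f, F4.e2),
  (457, .i, F4.e3),
  (460, .d, F4.e1),
  (460, .w, F4.e3),
  (461, .i, F4.e2),
  (462, .f, F4.e2),
  (462, .i, F4.e3),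
  (463, .e, F4.e1),
  (463, .i, F4.e1),
  (464, .h, F4.e1),
  (465, .d, F4.e1),
  (465, .g, F4.e2),
  (465, .i, F4.e3),
  (466, .i, F4.e3),
  (467, .w, F4.e2),
  (468, .c, F4.e1),
  (468, .g, F4.e1),
  (468, .h, F4.e1),
  (469, .f, F4.e1),
  (470, .d, F4.e1),
  (471, .c, F4.e1),
  (471, .g, F4.e2),
  (471, .h, F4.e1),
  (471, .i, F4.e2),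
  (473, .w, F4.e2),
  (475, .g, F4.e2),
  (475, .h, F4.e1),
  (476, .h, F4.e1),
  (477, .i, F4.e1),
  (478, .h, F4.e1),
  (479, .h, F4.e3),
  (480, .i, F4.e2),
  (481, .f, F4.e3),
  (481, .h, F4.e1),
  (482, .d, F4.e2),
  (482, .i, F4.e3),
  (483, .e, F4.e3),
  (483, .h, F4.e1),
  (483, .w, F4.e3),
  (484, .i, F4.e3),
  (485, .h, F4.e1),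
  (486, .h, F4.e1),
  (486, .w, F4.e1),
  (488, .i, F4.e1),
  (489, .f, F4.e2),
  (491, .i, F4.e2),
  (493, .w, F4.e3),
  (494, .i, F4.e3),
  (495, .f, F4.e3),
  (495, .i, F4.e2),
  (496, .h, F4.e1),
  (497, .i, F4.e3),
  (498, .e, F4.e2),
  (498, .i, F4.e2),
  (499, .w, F4.e3),
  (500, .h, F4.e1),
  (502, .w, F4.e2),
  (505, .w, F4.e3),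
  (506, .f, F4.e1),
  (507, .f, F4.e2),
  (507, .i, F4.e3),
  (512, .f, F4.e3),
  (512, .i, F4.e3),
  (514, .d, F4.e1),
  (514, .i, F4.e2),
  (515, .w, F4.e2),
  (516, .f, F4.e1),
  (519, .f, F4.e3),
  (519, .i, F4.e2),
  (520, .g, F4.e2),
  (521, .i, F4.e2),
  (522, .i, F4.e1),
  (523, .g, F4.e3),
  (523, .i, F4.e3),
  (524, .h, F4.e1),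
  (531, .f, F4.e2),
  (531, .i, F4.e3),
  (532, .i, F4.e3),
  (534, .h, F4.e1),
  (534, .w, F4.e2),
  (535, .f, F4.e1),
  (535, .i, F4.e2),
  (536, .h, F4.e1),
  (537, .e, F4.e2),
  (537, .g, F4.e3),
  (537, .i, F4.e3),
  (538, .h, F4.e1),
  (539, .d, F4.e1),
  (539, .i, F4.e2),
  (542, .c, F4.e1),
  (542, .g, F4.e1),
  (542, .h, F4.e1),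
  (542, .i, F4.e3),
  (543, .f, F4.e2),
  (543, .i, F4.e1),
  (544, .w, F4.e3),
  (550, .w, F4.e2),
  (552, .i, F4.e2),
  (553, .h, F4.e1),
  (554, .i, F4.e2),
  (555, .h, F4.e1),
  (555, .w, F4.e2),
  (558, .i, F4.e3),
  (559, .i, F4.e2),
  (560, .h, F4.e2),
  (560, .w, F4.e3),
  (562, .i, F4.e2),
  (563, .w, F4.e2),
  (564, .h, F4.e1),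
  (564, .w, F4.e3),
  (565, .d, F4.e1),
  (565, .i, F4.e1),
  (566, .i, F4.e2),
  (567, .w, F4.e3),
  (569, .i, F4.e3),
  (570, .i, F4.e3),
  (571, .h, F4.e3),
  (571, .w, F4.e2),
  (574, .f, F4.e2),
  (578, .i, F4.e2),
  (580, .i, F4.e1),
  (581, .h, F4.e1),
  (584, .i, F4.e3),
  (585, .w, F4.e3),
  (589, .i, F4.e1),
  (591, .i, F4.e2),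
  (593, .i, F4.e2),
  (595, .i, F4.e2),
  (596, .w, F4.e3),
  (599, .i, F4.e2),
  (607, .i, F4.e2),
  (608, .h, F4.e1),
  (610, .i, F4.e2),
  (611, .i, F4.e3),
  (612, .i, F4.e3),
  (613, .h, F4.e1),
  (614, .d, F4.e1),
  (615, .i, F4.e1),
  (616, .i, F4.e2),
  (617, .h, F4.e1),
  (617, .w, F4.e2),
  (618, .d, F4.e1),
  (619, .i, F4.e1),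
  (621, .i, F4.e3),
  (622, .i, F4.e2),
  (624, .h, F4.e1),
  (624, .w, F4.e3),
  (625, .i, F4.e2),
  (627, .f, F4.e3),
  (630, .i, F4.e2),
  (631, .h, F4.e3),
  (631, .w, F4.e2),
  (636, .w, F4.e2),
  (637, .f, F4.e2),
  (638, .w, F4.e1),
  (644, .h, F4.e1),
  (644, .w, F4.e1),
  (654, .w, F4.e2),
  (666, .h, F4.e1),
  (666, .w, F4.e2),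
  (669, .w, F4.e1)]

def ptAt (i : ℕ) : V6 := pts.getD i V6.zero

def trAt (i : ℕ) : ℕ × U6P.Gen × F4 := tree.getD i (0, .c, F4.e0)

/-- the tree is correct at position `i`. -/
def treeAt (i : ℕ) : Bool :=
  decide ((trAt i).1 < i) && decide ((trAt i).2.2 ≠ 0) &&
    decide (V6.smul (trAt i).2.2 ((letM (trAt i).2.1).mvec (ptAt (trAt i).1)) = ptAt i)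

def treeOK : Bool := (List.range 692).all fun i => treeAt (i + 1)

theorem treeOK_true : treeOK = true := by decide +kernel

theorem ptAt_zero : ptAt 0 = vecG .c := by decide +kernel

/-- the scalar normalising a vector. -/
def nrmc (u : V6) : F4 :=
  if u.a0 ≠ 0 then u.a0 * u.a0 else if u.a1 ≠ 0 then u.a1 * u.a1 else
  if u.a2 ≠ 0 then u.a2 * u.a2 else if u.a3 ≠ 0 then u.a3 * u.a3 else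
  if u.a4 ≠ 0 then u.a4 * u.a4 else u.a5 * u.a5

def allF : List F4 := [F4.e0, F4.e1, F4.e2, F4.e3]

def allV6 : List V6 :=
  allF.flatMap fun a0 => allF.flatMap fun a1 => allF.flatMap fun a2 => allF.flatMap fun a3 =>
    allF.flatMap fun a4 => allF.map fun a5 => ⟨a0, a1, a2, a3, a4, a5⟩

def coverAt (u : V6) : Bool :=
  !(decide (u.herm u = 0)) || decide (u = V6.zero) ||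
    (decide (nrmc u ≠ 0) && pts.contains (V6.smul (nrmc u) u))

def coverOK : Bool := allV6.all coverAt

theorem coverOK_true : coverOK = true := by decide +kernel

theorem mem_allF (a : F4) : a ∈ allF := by
  rcases F4.cases a with h | h | h | h <;> subst h <;> decide

theorem mem_allV6 (u : V6) : u ∈ allV6 := by
  obtain ⟨a0, a1, a2, a3, a4, a5⟩ := u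
  simp only [allV6, List.mem_flatMap, List.mem_map]
  exact ⟨a0, mem_allF a0, a1, mem_allF a1, a2, mem_allF a2, a3, mem_allF a3, a4, mem_allF a4,
    a5, mem_allF a5, rfl⟩

theorem pts_length : pts.length = 693 := by decide +kernel

end Cfsg.Agent.Helper17.U62
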