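import Mathlib
import Cfsg.Agent.Helper17.U62.Orbit
import Cfsg.Agent.Helper2.SU.Main

/-!
# The eight transvections generate `SU₆(2)`

They are transitive on the 693 isotropic points, so the subgroup they generate contains every
unitary transvection, and these generate `SU₆(2)` (`Helper2.SUGen.SU_le_TT`).
-/

set_option autoImplicit false
set_option linter.all false

namespace Cfsg.Agent.Helper17.U62

open Matrix Cfsg.Agent.S2644

/-- the subgroup generated by the eight transvections. -/
def S : Subgroup SU6 := Subgroup.closure (Set.range gS)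

theorem gS_mem (x : U6P.Gen) : gS x ∈ S := Subgroup.subset_closure ⟨x, rfl⟩

/-- `T_u ∈ S`. -/
def InS (u : V6) : Prop := ∃ s ∈ S, toM F4 6 2 s = toMat (M6.trv u)

theorem cube_pow {c : F4} (hc : c ≠ 0) : c ^ (2 + 1) = 1 := by
  have := F4.cube_eq_one c hc
  rw [pow_succ, pow_two]; exact this

theorem trv_smul (u : V6) {c : F4} (hc : c ≠ 0) :
    toMat (M6.trv (V6.smul c u)) = toMat (M6.trv u) := by
  rw [toMat_trv, toMat_trv, V6.toVec_smul, T_smul, cube_pow hc, mul_one]

theorem inS_step {u : V6} (hu : InS u) (l : U6P.Gen) {c : F4} (hc : c ≠ 0) :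
    InS (V6.smul c ((letM l).mvec u)) := by
  obtain ⟨s, hs, hsM⟩ := hu
  refine ⟨gS l * s * (gS l)⁻¹, S.mul_mem (S.mul_mem (gS_mem l) hs) (S.inv_mem (gS_mem l)), ?_⟩
  rw [trv_smul _ hc, toMat_trv, ← toMat_mulVec, ← toM_gS]
  have hP : Pres (q := 2) (toM F4 6 2 (gS l)) := toM_pres (gS l)
  have h1 := T_conj (toM F4 6 2 (gS l)) hP u.toVec (1 : F4)
  rw [map_mul, map_mul, hsM, toMat_trv, h1, Matrix.mul_assoc, ← map_mul, mul_inv_cancel, map_one,
    Matrix.mul_one]

theorem tree_spec {i : ℕ} (hi : i < 692) : treeAt (i + 1) = true := by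
  have h := treeOK_true
  unfold treeOK at h
  rw [List.all_eq_true] at h
  exact h i (List.mem_range.mpr hi)

theorem inS_pts : ∀ i, i < 693 → InS (ptAt i) := by
  intro i
  induction i using Nat.strong_induction_on with
  | _ i ih =>
    intro hi
    rcases Nat.eq_zero_or_pos i with h0 | hpos
    · subst h0
      rw [ptAt_zero]
      exact ⟨gS .c, gS_mem _, rfl⟩
    · obtain ⟨j, rfl⟩ : ∃ j, i = j + 1 := ⟨i - 1, by omega⟩
      have ht := tree_spec (i := j) (by omega)
      unfold treeAt at ht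
      simp only [Bool.and_eq_true, decide_eq_true_eq] at ht
      obtain ⟨⟨hlt, hc⟩, heq⟩ := ht
      rw [← heq]
      exact inS_step (ih _ hlt (by omega)) _ hc

theorem inS_of_iso (u : V6) (hu : u.herm u = 0) (h0 : u ≠ V6.zero) : InS u := by
  have h := coverOK_true
  unfold coverOK at h
  rw [List.all_eq_true] at h
  have hu' := h u (mem_allV6 u)
  unfold coverAt at hu'
  simp only [Bool.or_eq_true, Bool.not_eq_true', decide_eq_false_iff_not, decide_eq_true_eq,
    Bool.and_eq_true, List.contains_iff_mem] at hu'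
  rcases hu' with (hu' | hu') | ⟨hc, hmem⟩
  · exact absurd hu hu'
  · exact absurd hu' h0
  · obtain ⟨i, hi, hget⟩ := List.getElem_of_mem hmem
    have hi' : i < 693 := by rw [← pts_length]; exact hi
    have hp : ptAt i = V6.smul (nrmc u) u := by
      unfold ptAt
      rw [List.getD_eq_getElem _ _ hi, hget]
    obtain ⟨s, hs, hsM⟩ := inS_pts i hi'
    refine ⟨s, hs, ?_⟩
    rw [hsM, hp, trv_smul _ hc]

theorem sigma_cases : ∀ c : F4, c ^ 2 = -c → c = 0 ∨ c = 1 := by decide

theorem S_eq_top : S = ⊤ := by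
  rw [eq_top_iff]
  intro g _
  obtain ⟨σ, hσ, hσ2⟩ := frobF4
  have hne : σ ≠ RingHom.id F4 := by
    intro h
    have h1 := hσ F4.e2
    rw [h] at h1
    revert h1
    decide
  let D : Cfsg.Agent.Helper2.SUGen.Frob F4 2 := ⟨σ, hσ, hσ2, hne⟩
  have hK : Fintype.card F4 = 2 ^ 2 := by rw [F4.card]; norm_num
  have hTT := Cfsg.Agent.Helper2.SUGen.SU_le_TT D hK (n := 6) (by norm_num) (by norm_num)
    (toM_pres g) g.1.2
  have key : ∀ M ∈ Cfsg.Agent.Helper2.SUGen.TT D (⊤ : Submodule F4 (Fin 6 → F4)),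
      ∃ s ∈ S, toM F4 6 2 s = M := by
    intro M hM
    induction hM using Submonoid.closure_induction with
    | mem M hM =>
      obtain ⟨x, c, -, hxx, hc, rfl⟩ := hM
      have hc' : c ^ 2 = -c := by rw [← hσ]; exact hc
      rcases sigma_cases c hc' with rfl | rfl
      · exact ⟨1, S.one_mem, by rw [map_one, Cfsg.Agent.S0781.T_zero_coeff]⟩
      · by_cases hx : x = 0
        · subst hx
          exact ⟨1, S.one_mem, by rw [map_one, Cfsg.Agent.S0781.T_zero_vec]⟩
        · have hu : (V6.ofVec x).herm (V6.ofVec x) = 0 := by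
            rw [← herm_eq, V6.toVec_ofVec]; exact hxx
          have h0 : V6.ofVec x ≠ V6.zero := by
            intro h
            apply hx
            rw [← V6.toVec_ofVec x, h, V6.toVec_zero]
          obtain ⟨s, hs, hsM⟩ := inS_of_iso _ hu h0
          exact ⟨s, hs, by rw [hsM, toMat_trv, V6.toVec_ofVec]⟩
    | one => exact ⟨1, S.one_mem, map_one _⟩
    | mul A B _ _ hA hB =>
      obtain ⟨a, ha, rfl⟩ := hA
      obtain ⟨b, hb, rfl⟩ := hB
      exact ⟨a * b, S.mul_mem ha hb, map_mul _ _ _⟩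
  obtain ⟨s, hs, hsM⟩ := key _ hTT
  have : s = g := toM_injective hsM
  rw [← this]; exact hs

end Cfsg.Agent.Helper17.U62
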