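import Mathlib
import Cfsg.Agent.Helper17.U62.GenTop
import Cfsg.Agent.Helper17.U6PTC.Perm
import Cfsg.Agent.Helper17.Fi22Ord.Upper
import Cfsg.Agent.S0280
import Cfsg.Agent.S0283

/-!
# The presented group `U6P` maps onto `PSU₆(2)`; its order divides `2 |PSU₆(2)|`
-/

set_option autoImplicit false
set_option linter.all false

noncomputable section

namespace Cfsg.Agent.Helper17.U62

open Cfsg.Spor Cfsg.Agent.Helper17.FiSub

/-- `PSU₆(2)`. -/
abbrev PSU6 : Type := Cfsg.PSU 6 F4 2

/-- the images of the generators. -/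
def f0 (x : U6P.Gen) : PSU6 := QuotientGroup.mk (gS x)

theorem f0_word (w : List U6P.Gen) : (w.map f0).prod = (QuotientGroup.mk (evS w) : PSU6) := by
  induction w with
  | nil => simp [evS]
  | cons a w ih =>
    have : evS (a :: w) = gS a * evS w := by simp [evS]
    rw [List.map_cons, List.prod_cons, ih, this, QuotientGroup.mk_mul]
    rfl

theorem rel0 : ∀ r ∈ U6PTC.Rels, FreeGroup.lift f0 r = 1 := by
  intro r hr
  rcases hr with ⟨x, _, y, _, rfl⟩ | hr
  · rw [map_pow, map_mul, FreeGroup.lift_apply_of, FreeGroup.lift_apply_of]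
    show ((QuotientGroup.mk (gS x) : PSU6) * QuotientGroup.mk (gS y)) ^ _ = 1
    rw [← QuotientGroup.mk_mul, ← QuotientGroup.mk_pow, coxS, QuotientGroup.mk_one]
  · simp only [Set.mem_setOf_eq, U6P.extra, List.mem_cons, List.mem_singleton, List.not_mem_nil,
      or_false] at hr
    rcases hr with rfl | rfl | rfl | rfl
    · have h := f0_word [.i, .h, .d, .e, .f, .g, .c]
      simp only [List.map_cons, List.map_nil, List.prod_cons, List.prod_nil, mul_one] at h
      simp only [map_pow, map_mul, FreeGroup.lift_apply_of, mul_assoc]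
      rw [h, ← QuotientGroup.mk_pow, exE7, QuotientGroup.mk_one]
    · have h := f0_word [.w, .f, .e, .d, .h, .i, .h, .d, .e, .f]
      simp only [List.map_cons, List.map_nil, List.prod_cons, List.prod_nil, mul_one] at h
      simp only [map_pow, map_mul, FreeGroup.lift_apply_of, mul_assoc]
      rw [h, ← QuotientGroup.mk_pow, exTR, QuotientGroup.mk_one]
    · have h := f0_word [.w, .f, .e, .d, .h, .i]
      simp only [List.map_cons, List.map_nil, List.prod_cons, List.prod_nil, mul_one] at h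
      simp only [map_pow, map_mul, FreeGroup.lift_apply_of, mul_assoc]
      rw [h, ← QuotientGroup.mk_pow]
      exact (QuotientGroup.eq_one_iff _).mpr exCX
    · have h := f0_word [.f, .i, .e, .g, .w, .h]
      simp only [List.map_cons, List.map_nil, List.prod_cons, List.prod_nil, mul_one] at h
      simp only [map_pow, map_mul, FreeGroup.lift_apply_of, mul_assoc]
      rw [h, ← QuotientGroup.mk_pow, exK5, QuotientGroup.mk_one]

/-- the homomorphism onto `PSU₆(2)`. -/
def psi : U6PTC.G →* PSU6 := PresentedGroup.toGroup rel0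

theorem psi_of (x : U6P.Gen) : psi (PresentedGroup.of x) = f0 x :=
  PresentedGroup.toGroup.of rel0

theorem psi_surj : Function.Surjective psi := by
  intro q
  obtain ⟨g, rfl⟩ := QuotientGroup.mk_surjective q
  have hle : S ≤ (psi.range).comap (QuotientGroup.mk' (Subgroup.center SU6)) := by
    unfold S
    rw [Subgroup.closure_le]
    rintro _ ⟨x, rfl⟩
    exact ⟨PresentedGroup.of x, psi_of x⟩
  have hg : g ∈ S := by rw [S_eq_top]; trivial
  exact hle hg

theorem card_PSU6 : Nat.card PSU6 = 9196830720 := by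
  have h := Cfsg.Agent.S0280.result (F := F4) (q := 2) (by rw [F4.card]; norm_num) 6 (by norm_num)
  have h2 : (2 : ℕ) ^ (6 * (6 - 1) / 2) * ∏ i ∈ Finset.range 6,
      (if Even i then 2 ^ (i + 1) + 1 else 2 ^ (i + 1) - 1) = 82771476480 := by
    decide
  rw [h2] at h
  have h3 : Nat.gcd 6 (2 + 1) = 3 := by decide
  rw [h3] at h
  have h4 : 9 * Nat.card PSU6 = 82771476480 := by rw [← h]; ring
  omega

instance finPSU6 : Finite PSU6 := by
  apply Nat.finite_of_card_ne_zero
  rw [card_PSU6]; norm_num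

theorem simplePSU6 : IsSimpleGroup PSU6 :=
  Cfsg.Agent.S0283.result (F := F4) (q := 2) (by rw [F4.card]; norm_num) 6 (by norm_num)
    (by norm_num)

theorem center_PSU6 : Subgroup.center PSU6 = ⊥ := by
  haveI := simplePSU6
  rcases (inferInstance : (Subgroup.center PSU6).Normal).eq_bot_or_eq_top with h | h
  · exact h
  · exfalso
    letI := Group.commGroupOfCenterEqTop h
    have hp := IsSimpleGroup.prime_card (α := PSU6)
    rw [card_PSU6] at hp
    norm_num at hp

/-! ### the order of the presented group -/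

def emb2 : FiQ2.Gen → U6P.Gen
  | .b => .i
  | .c => .h
  | .d => .d
  | .e => .e
  | .f => .f
  | .g => .g
  | .h => .c

def f2 (x : FiQ2.Gen) : U6PTC.G := PresentedGroup.of (emb2 x)

theorem lab2 (x y : FiQ2.Gen) :
    coxLabel FiQ2.edges x y = coxLabel U6P.edges (emb2 x) (emb2 y) := by
  cases x <;> cases y <;> decide

theorem rel2 : ∀ r ∈ FiQ2TC.Rels, FreeGroup.lift f2 r = 1 := by
  intro r hr
  rcases hr with ⟨x, _, y, _, rfl⟩ | hr
  · rw [map_pow, map_mul, FreeGroup.lift_apply_of, FreeGroup.lift_apply_of, lab2]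
    exact U6PTC.cox (emb2 x) (emb2 y)
  · simp only [Set.mem_setOf_eq, FiQ2.extra, List.mem_cons, List.mem_singleton, List.not_mem_nil,
      or_false] at hr
    rcases hr with rfl
    · have h := U6PTC.extra_one (r := (U6P.i * U6P.h * U6P.d * U6P.e * U6P.f * U6P.g * U6P.c) ^ 9)
        (by simp [U6P.extra])
      simpa [f2, emb2, U6PTC.mk_of] using h

def phi2 : FiQ2TC.G →* U6PTC.G := PresentedGroup.toGroup rel2

theorem phi2_of (x : FiQ2.Gen) : phi2 (PresentedGroup.of x) = f2 x :=
  PresentedGroup.toGroup.of rel2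

theorem range2 : U6PTC.Hs = phi2.range := by
  have h1 : phi2.range = Subgroup.closure (Set.range f2) := by
    rw [MonoidHom.range_eq_map, ← PresentedGroup.closure_range_of, MonoidHom.map_closure]
    congr 1
    ext g
    constructor
    · rintro ⟨_, ⟨x, rfl⟩, rfl⟩; exact ⟨x, (phi2_of x).symm⟩
    · rintro ⟨x, rfl⟩; exact ⟨_, ⟨x, rfl⟩, phi2_of x⟩
  rw [h1, U6PTC.Hs, MonoidHom.map_closure]
  congr 1
  ext g
  constructor
  · rintro ⟨s, hs, rfl⟩
    simp only [Set.mem_insert_iff, Set.mem_singleton_iff] at hs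
    rcases hs with rfl | rfl | rfl | rfl | rfl | rfl | rfl
    · exact ⟨.h, rfl⟩
    · exact ⟨.d, rfl⟩
    · exact ⟨.e, rfl⟩
    · exact ⟨.f, rfl⟩
    · exact ⟨.g, rfl⟩
    · exact ⟨.c, rfl⟩
    · exact ⟨.b, rfl⟩
  · rintro ⟨x, rfl⟩
    cases x
    · exact ⟨U6P.i, by simp, rfl⟩
    · exact ⟨U6P.h, by simp, rfl⟩
    · exact ⟨U6P.d, by simp, rfl⟩
    · exact ⟨U6P.e, by simp, rfl⟩
    · exact ⟨U6P.f, by simp, rfl⟩
    · exact ⟨U6P.g, by simp, rfl⟩
    · exact ⟨U6P.c, by simp, rfl⟩

theorem idxP : U6PTC.Hs.index = 12672 := by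
  rw [Subgroup.index_eq_card]; exact U6PTC.card_Q

theorem card_P_dvd : Nat.card U6PTC.G ∣ 18393661440 := by
  have h4 := Fi22Ord.card_dvd_step' Fi22Ord.phi4 FiQ3TC.Hs Fi22Ord.range4 FiQ4TC.Hs 60 _
    Fi22Ord.idxL4 Fi22Ord.card_bot
  have h3 := Fi22Ord.card_dvd_step' Fi22Ord.phi3 FiQ2TC.Hs Fi22Ord.range3 FiQ3TC.Hs 432 _
    Fi22Ord.idxL3 h4
  have h2 := Fi22Ord.card_dvd_step' phi2 U6PTC.Hs range2 FiQ2TC.Hs 28 _ Fi22Ord.idxL2 h3
  have h1 : Nat.card U6PTC.Hs * U6PTC.Hs.index = Nat.card U6PTC.G := Subgroup.card_mul_index _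
  rw [← h1, idxP]
  exact (Nat.mul_dvd_mul_right h2 12672).trans (by norm_num)

theorem finP : Finite U6PTC.G := by
  apply Nat.finite_of_card_ne_zero
  intro h
  have := card_P_dvd
  rw [h] at this
  norm_num at this

end Cfsg.Agent.Helper17.U62
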