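import Mathlib
import Cfsg.Agent.Helper17.Fi22Ord.Simple
import Cfsg.Agent.Helper17.U62.Hom

/-!
# The presented group `U6P` maps into the presented `Fi₂₂`

Images of the generators are words; the relators are checked through the faithful permutation
representation of `Fi₂₂` on 14080 points.
-/

set_option autoImplicit false
set_option linter.all false
set_option maxRecDepth 100000

noncomputable section

namespace Cfsg.Agent.Helper17.U62

open Cfsg.Spor

/-- `pw jw [i₁, …, iₙ] = prodw (jw i₁) * … * prodw (jw iₙ)`. -/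
def pw (jw : ℕ → List ℕ) : List ℕ → Fi22bTC.G
  | [] => 1
  | i :: l => Fi22bTC.prodw (jw i) * pw jw l

/-- the word of `pw jw l`. -/
def cat (jw : ℕ → List ℕ) (l : List ℕ) : List ℕ := ((l.map jw).reverse).flatten

theorem cat_cons (jw : ℕ → List ℕ) (i : ℕ) (l : List ℕ) : cat jw (i :: l) = cat jw l ++ jw i := by
  simp [cat]

theorem pw_eq (jw : ℕ → List ℕ) (l : List ℕ) : pw jw l = Fi22bTC.prodw (cat jw l) := by
  induction l with
  | nil => simp [pw, cat, Fi22bTC.prodw]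
  | cons i l ih => rw [pw, ih, cat_cons, Fi22Ord.prodw_append]

/-- the relator word `(pw jw l) ^ m`. -/
def relw (jw : ℕ → List ℕ) (l : List ℕ) (m : ℕ) : List ℕ := (List.replicate m (cat jw l)).flatten

theorem pw_pow_eq_one (jw : ℕ → List ℕ) (l : List ℕ) (m : ℕ)
    (h : Fi22Ord.chkBase (relw jw l m) = true) : pw jw l ^ m = 1 := by
  rw [pw_eq, ← Fi22Ord.prodw_replicate]
  exact Fi22Ord.prodw_eq_one h

theorem pw_pow_mul_eq_one (jw : ℕ → List ℕ) (l : List ℕ) (m t : ℕ)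
    (h : Fi22Ord.chkBase (t :: relw jw l m) = true) : pw jw l ^ m * Fi22bTC.gG t = 1 := by
  rw [pw_eq, ← Fi22Ord.prodw_replicate]
  exact Fi22Ord.prodw_eq_one h

theorem pair_pow' (jw : ℕ → List ℕ) (i j m : ℕ)
    (h : Fi22Ord.chkBase (relw jw [i, j] m) = true) :
    (Fi22bTC.prodw (jw i) * Fi22bTC.prodw (jw j)) ^ m = 1 := by
  have := pw_pow_eq_one jw [i, j] m h
  simpa [pw] using this

theorem prodw_ne_one (w : List ℕ) (hw : ∀ l ∈ w, l < Fi22bTC.nl) (p : ℕ)
    (hp : Fi22bTC.evalw w p ≠ p) : Fi22bTC.prodw w ≠ 1 := by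
  intro h
  apply hp
  rw [← Fi22Ord.phi_prodw_apply w hw, h, map_one, Equiv.Perm.one_apply]

theorem prodw_ne (u w : List ℕ) (hu : ∀ l ∈ u, l < Fi22bTC.nl) (hw : ∀ l ∈ w, l < Fi22bTC.nl)
    (p : ℕ) (hp : Fi22bTC.evalw u p ≠ Fi22bTC.evalw w p) : Fi22bTC.prodw u ≠ Fi22bTC.prodw w := by
  intro h
  apply hp
  rw [← Fi22Ord.phi_prodw_apply u hu, ← Fi22Ord.phi_prodw_apply w hw, h]

/-- the words of the generators `c, …, i, w` in the generators of `Fi₂₂`. -/
def jwF : ℕ → List ℕ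
  | 0 => [2]
  | 1 => [3]
  | 2 => [4]
  | 3 => [5]
  | 4 => [6]
  | 5 => [7]
  | 6 => [8]
  | _ => [7, 4, 3, 2, 1, 0, 7, 4, 3, 2, 1, 0, 7, 4, 3, 2, 1, 0, 7, 4, 3, 2, 1, 0, 7, 4, 3, 2, 1, 0]

/-- the images of the generators. -/
def fF (x : U6P.Gen) : Fi22bTC.G := Fi22bTC.prodw (jwF (U6PTC.idx x))

theorem coxF (x y : U6P.Gen) : (fF x * fF y) ^ coxLabel U6P.edges x y = 1 := by
  cases x <;> cases y <;> exact pair_pow' jwF _ _ _ (by decide +kernel)

theorem relF : ∀ r ∈ U6PTC.Rels, FreeGroup.lift fF r = 1 := by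
  intro r hr
  rcases hr with ⟨x, _, y, _, rfl⟩ | hr
  · rw [map_pow, map_mul, FreeGroup.lift_apply_of, FreeGroup.lift_apply_of]
    exact coxF x y
  · simp only [Set.mem_setOf_eq, U6P.extra, List.mem_cons, List.mem_singleton, List.not_mem_nil,
      or_false] at hr
    rcases hr with rfl | rfl | rfl | rfl
    · have h : FreeGroup.lift fF ((U6P.i * U6P.h * U6P.d * U6P.e * U6P.f * U6P.g * U6P.c) ^ 9) =
          pw jwF [6, 5, 1, 2, 3, 4, 0] ^ 9 := by
        simp only [map_pow, map_mul, FreeGroup.lift_apply_of, pw, mul_one, mul_assoc]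
        rfl
      rw [h]
      exact pw_pow_eq_one _ _ _ (by decide +kernel)
    · have h : FreeGroup.lift fF ((U6P.w * U6P.f * U6P.e * U6P.d * U6P.h * U6P.i * U6P.h * U6P.d *
          U6P.e * U6P.f) ^ 3) = pw jwF [7, 3, 2, 1, 5, 6, 5, 1, 2, 3] ^ 3 := by
        simp only [map_pow, map_mul, FreeGroup.lift_apply_of, pw, mul_one, mul_assoc]
        rfl
      rw [h]
      exact pw_pow_eq_one _ _ _ (by decide +kernel)
    · have h : FreeGroup.lift fF ((U6P.w * U6P.f * U6P.e * U6P.d * U6P.h * U6P.i) ^ 5) =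
          pw jwF [7, 3, 2, 1, 5, 6] ^ 5 := by
        simp only [map_pow, map_mul, FreeGroup.lift_apply_of, pw, mul_one, mul_assoc]
        rfl
      rw [h]
      exact pw_pow_eq_one _ _ _ (by decide +kernel)
    · have h : FreeGroup.lift fF ((U6P.f * U6P.i * U6P.e * U6P.g * U6P.w * U6P.h) ^ 5) =
          pw jwF [3, 6, 2, 4, 7, 5] ^ 5 := by
        simp only [map_pow, map_mul, FreeGroup.lift_apply_of, pw, mul_one, mul_assoc]
        rfl
      rw [h]
      exact pw_pow_eq_one _ _ _ (by decide +kernel)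

/-- the homomorphism to `Fi₂₂`. -/
def phiF : U6PTC.G →* Fi22bTC.G := PresentedGroup.toGroup relF

theorem phiF_of (x : U6P.Gen) : phiF (PresentedGroup.of x) = fF x :=
  PresentedGroup.toGroup.of relF

/-- the central involution. -/
def aP : U6PTC.G :=
  ((PresentedGroup.of U6P.Gen.w : U6PTC.G) * PresentedGroup.of U6P.Gen.e *
    PresentedGroup.of U6P.Gen.c * PresentedGroup.of U6P.Gen.f * PresentedGroup.of U6P.Gen.e *
    PresentedGroup.of U6P.Gen.d * PresentedGroup.of U6P.Gen.c * PresentedGroup.of U6P.Gen.e *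
    PresentedGroup.of U6P.Gen.h * PresentedGroup.of U6P.Gen.d) ^ 3

theorem phiF_aP : phiF aP = Fi22bTC.gG 0 := by
  have h : phiF aP = pw jwF [7, 2, 0, 3, 2, 1, 0, 2, 5, 1] ^ 3 := by
    unfold aP
    simp only [map_pow, map_mul, phiF_of, pw, mul_one, mul_assoc]
    rfl
  have h2 := pw_pow_mul_eq_one jwF [7, 2, 0, 3, 2, 1, 0, 2, 5, 1] 3 0 (by decide +kernel)
  rw [h, eq_inv_of_mul_eq_one_left h2, Fi22bTC.gG_inv]

theorem psi_aP : psi aP = 1 := by
  have h := f0_word [.w, .e, .c, .f, .e, .d, .c, .e, .h, .d]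
  simp only [List.map_cons, List.map_nil, List.prod_cons, List.prod_nil, mul_one] at h
  unfold aP
  simp only [map_pow, map_mul, psi_of, mul_assoc]
  rw [h, ← QuotientGroup.mk_pow, exA, QuotientGroup.mk_one]

theorem gG0_ne_one : Fi22bTC.gG 0 ≠ 1 := by
  have h := prodw_ne_one [0] (by decide) 0 (by decide +kernel)
  simpa [Fi22bTC.prodw] using h

theorem gG2_ne_one : Fi22bTC.gG 2 ≠ 1 := by
  have h := prodw_ne_one [2] (by decide) 2 (by decide +kernel)
  simpa [Fi22bTC.prodw] using h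

theorem gG2_ne_gG0 : Fi22bTC.gG 2 ≠ Fi22bTC.gG 0 := by
  have h := prodw_ne [2] [0] (by decide) (by decide) 0 (by decide +kernel)
  simpa [Fi22bTC.prodw] using h

end Cfsg.Agent.Helper17.U62
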