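import Mathlib
import Cfsg.Agent.Helper17.U62.ToFi22
import Cfsg.Agent.Helper17.DoubleCover

/-!
# The subgroup `⟨a, c, …, i, (abcdeh)⁵⟩` of the presented `Fi₂₂` is a non-split `2·U₆(2)`
-/

set_option autoImplicit false
set_option linter.all false

noncomputable section

namespace Cfsg.Agent.Helper17.U62

open Cfsg.Spor

theorem aP_ne_one : aP ≠ 1 := by
  intro h
  have := phiF_aP
  rw [h, map_one] at this
  exact gG0_ne_one this.symm

theorem aP_mem_ker : aP ∈ psi.ker := psi_aP

theorem card_P_eq : Nat.card U6PTC.G = Nat.card psi.ker * 9196830720 := by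
  haveI := finP
  have h1 := Subgroup.card_eq_card_quotient_mul_card_subgroup psi.ker
  have h2 : Nat.card (U6PTC.G ⧸ psi.ker) = Nat.card PSU6 :=
    Nat.card_congr (QuotientGroup.quotientKerEquivOfSurjective psi psi_surj).toEquiv
  rw [h2, card_PSU6] at h1
  rw [h1, mul_comm]

theorem card_ker : Nat.card psi.ker = 2 := by
  haveI := finP
  have h2 := card_P_dvd
  rw [card_P_eq] at h2
  have h3 : Nat.card psi.ker ∣ 2 := by
    have : Nat.card psi.ker * 9196830720 ∣ 2 * 9196830720 := by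
      have e : (2 : ℕ) * 9196830720 = 18393661440 := by norm_num
      rw [e]; exact h2
    exact Nat.dvd_of_mul_dvd_mul_right (by norm_num) this
  have h4 : Nat.card psi.ker ≠ 1 := by
    intro h
    have hb : psi.ker = ⊥ := Subgroup.card_eq_one.mp h
    have := aP_mem_ker
    rw [hb, Subgroup.mem_bot] at this
    exact aP_ne_one this
  have h5 : 0 < Nat.card psi.ker := Nat.card_pos
  have h6 := Nat.le_of_dvd (by norm_num) h3
  omega

theorem card_P : Nat.card U6PTC.G = 18393661440 := by rw [card_P_eq, card_ker]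

theorem ker_cases {x : U6PTC.G} (hx : x ∈ psi.ker) : x = 1 ∨ x = aP := by
  by_cases h1 : x = 1
  · exact Or.inl h1
  · right
    obtain ⟨b, -, hb⟩ := (Nat.card_eq_two_iff' (1 : psi.ker)).mp card_ker
    have e1 : (⟨x, hx⟩ : psi.ker) = b := hb _ (fun h => h1 (congrArg Subtype.val h))
    have e2 : (⟨aP, aP_mem_ker⟩ : psi.ker) = b :=
      hb _ (fun h => aP_ne_one (congrArg Subtype.val h))
    exact congrArg Subtype.val (e1.trans e2.symm)

theorem fF_c : fF .c = Fi22bTC.gG 2 := by
  simp [fF, U6PTC.idx, jwF, Fi22bTC.prodw]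

theorem phiF_ker : phiF.ker = ⊥ := by
  haveI := simplePSU6
  have hN : (phiF.ker.map psi).Normal := Subgroup.Normal.map inferInstance psi psi_surj
  rcases hN.eq_bot_or_eq_top with h | h
  · rw [eq_bot_iff]
    intro x hx
    have hx2 : x ∈ psi.ker := by
      rw [MonoidHom.mem_ker]
      have : psi x ∈ phiF.ker.map psi := Subgroup.mem_map_of_mem _ hx
      rw [h] at this
      exact Subgroup.mem_bot.mp this
    rcases ker_cases hx2 with rfl | rfl
    · exact Subgroup.mem_bot.mpr rfl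
    · exfalso
      rw [MonoidHom.mem_ker, phiF_aP] at hx
      exact gG0_ne_one hx
  · exfalso
    have hc : psi (PresentedGroup.of U6P.Gen.c) ∈ phiF.ker.map psi := by rw [h]; trivial
    obtain ⟨k, hk, hkc⟩ := hc
    have hmem : k⁻¹ * PresentedGroup.of U6P.Gen.c ∈ psi.ker := by
      rw [MonoidHom.mem_ker, map_mul, map_inv, hkc, inv_mul_cancel]
    have hphi : phiF (k⁻¹ * PresentedGroup.of U6P.Gen.c) = Fi22bTC.gG 2 := by
      rw [map_mul, map_inv, MonoidHom.mem_ker.mp hk, inv_one, one_mul, phiF_of, fF_c]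
    rcases ker_cases hmem with h1 | h1
    · rw [h1, map_one] at hphi; exact gG2_ne_one hphi.symm
    · rw [h1, phiF_aP] at hphi; exact gG2_ne_gG0 hphi.symm

theorem phiF_inj : Function.Injective phiF := (MonoidHom.ker_eq_bot_iff phiF).mp phiF_ker

/-- the subgroup of the statement. -/
def HF : Subgroup Fi22bTC.G :=
  (Subgroup.closure ({Fi22.a, Fi22.c, Fi22.d, Fi22.e, Fi22.f, Fi22.g, Fi22.h, Fi22.i,
    (Fi22.a * Fi22.b * Fi22.c * Fi22.d * Fi22.e * Fi22.h) ^ 5} :
      Set (FreeGroup Fi22.Gen))).map (PresentedGroup.mk Fi22bTC.Rels)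

theorem fF_eq (x : U6P.Gen) : fF x ∈ HF := by
  cases x
  · have h : fF .c = PresentedGroup.mk Fi22bTC.Rels Fi22.c := by
      simp [fF, U6PTC.idx, jwF, Fi22bTC.prodw]; rfl
    rw [h]; exact Subgroup.mem_map_of_mem _ (Subgroup.subset_closure (by simp))
  · have h : fF .d = PresentedGroup.mk Fi22bTC.Rels Fi22.d := by
      simp [fF, U6PTC.idx, jwF, Fi22bTC.prodw]; rfl
    rw [h]; exact Subgroup.mem_map_of_mem _ (Subgroup.subset_closure (by simp))
  · have h : fF .e = PresentedGroup.mk Fi22bTC.Rels Fi22.e := by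
      simp [fF, U6PTC.idx, jwF, Fi22bTC.prodw]; rfl
    rw [h]; exact Subgroup.mem_map_of_mem _ (Subgroup.subset_closure (by simp))
  · have h : fF .f = PresentedGroup.mk Fi22bTC.Rels Fi22.f := by
      simp [fF, U6PTC.idx, jwF, Fi22bTC.prodw]; rfl
    rw [h]; exact Subgroup.mem_map_of_mem _ (Subgroup.subset_closure (by simp))
  · have h : fF .g = PresentedGroup.mk Fi22bTC.Rels Fi22.g := by
      simp [fF, U6PTC.idx, jwF, Fi22bTC.prodw]; rfl
    rw [h]; exact Subgroup.mem_map_of_mem _ (Subgroup.subset_closure (by simp))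
  · have h : fF .h = PresentedGroup.mk Fi22bTC.Rels Fi22.h := by
      simp [fF, U6PTC.idx, jwF, Fi22bTC.prodw]; rfl
    rw [h]; exact Subgroup.mem_map_of_mem _ (Subgroup.subset_closure (by simp))
  · have h : fF .i = PresentedGroup.mk Fi22bTC.Rels Fi22.i := by
      simp [fF, U6PTC.idx, jwF, Fi22bTC.prodw]; rfl
    rw [h]; exact Subgroup.mem_map_of_mem _ (Subgroup.subset_closure (by simp))
  · have h1 : PresentedGroup.mk Fi22bTC.Rels
        ((Fi22.a * Fi22.b * Fi22.c * Fi22.d * Fi22.e * Fi22.h) ^ 5) ∈ HF :=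
      Subgroup.mem_map_of_mem _ (Subgroup.subset_closure (by simp))
    have h : fF .w = PresentedGroup.mk Fi22bTC.Rels
        ((Fi22.a * Fi22.b * Fi22.c * Fi22.d * Fi22.e * Fi22.h) ^ 5) := by
      simp only [map_mul, map_pow, Fi22bTC.mk_of, Fi22bTC.ofG0, Fi22bTC.ofG1, Fi22bTC.ofG2,
        Fi22bTC.ofG3, Fi22bTC.ofG4, Fi22bTC.ofG7]
      simp only [fF, U6PTC.idx, jwF, Fi22bTC.prodw, pow_succ, pow_zero, one_mul, mul_assoc]
    rw [h]; exact h1

theorem wF_eq : PresentedGroup.mk Fi22bTC.Rels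
    ((Fi22.a * Fi22.b * Fi22.c * Fi22.d * Fi22.e * Fi22.h) ^ 5) = fF .w := by
  simp only [map_mul, map_pow, Fi22bTC.mk_of, Fi22bTC.ofG0, Fi22bTC.ofG1, Fi22bTC.ofG2,
    Fi22bTC.ofG3, Fi22bTC.ofG4, Fi22bTC.ofG7]
  simp only [fF, U6PTC.idx, jwF, Fi22bTC.prodw, pow_succ, pow_zero, one_mul, mul_assoc]

theorem range_eq : phiF.range = HF := by
  have h1 : phiF.range = Subgroup.closure (Set.range fF) := by
    rw [MonoidHom.range_eq_map, ← PresentedGroup.closure_range_of, MonoidHom.map_closure]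
    congr 1
    ext g
    constructor
    · rintro ⟨_, ⟨x, rfl⟩, rfl⟩; exact ⟨x, (phiF_of x).symm⟩
    · rintro ⟨x, rfl⟩; exact ⟨_, ⟨x, rfl⟩, phiF_of x⟩
  apply le_antisymm
  · rw [h1, Subgroup.closure_le]
    rintro _ ⟨x, rfl⟩
    exact fF_eq x
  · rw [HF, MonoidHom.map_closure, Subgroup.closure_le]
    rintro _ ⟨s, hs, rfl⟩
    simp only [Set.mem_insert_iff, Set.mem_singleton_iff] at hs
    have hof : ∀ x : U6P.Gen, fF x ∈ phiF.range := fun x => ⟨_, phiF_of x⟩
    rcases hs with rfl | rfl | rfl | rfl | rfl | rfl | rfl | rfl | rfl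
    · exact ⟨aP, phiF_aP⟩
    · have h : PresentedGroup.mk Fi22bTC.Rels Fi22.c = fF .c := by
        simp [fF, U6PTC.idx, jwF, Fi22bTC.prodw]; rfl
      rw [SetLike.mem_coe, h]; exact hof _
    · have h : PresentedGroup.mk Fi22bTC.Rels Fi22.d = fF .d := by
        simp [fF, U6PTC.idx, jwF, Fi22bTC.prodw]; rfl
      rw [SetLike.mem_coe, h]; exact hof _
    · have h : PresentedGroup.mk Fi22bTC.Rels Fi22.e = fF .e := by
        simp [fF, U6PTC.idx, jwF, Fi22bTC.prodw]; rfl
      rw [SetLike.mem_coe, h]; exact hof _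
    · have h : PresentedGroup.mk Fi22bTC.Rels Fi22.f = fF .f := by
        simp [fF, U6PTC.idx, jwF, Fi22bTC.prodw]; rfl
      rw [SetLike.mem_coe, h]; exact hof _
    · have h : PresentedGroup.mk Fi22bTC.Rels Fi22.g = fF .g := by
        simp [fF, U6PTC.idx, jwF, Fi22bTC.prodw]; rfl
      rw [SetLike.mem_coe, h]; exact hof _
    · have h : PresentedGroup.mk Fi22bTC.Rels Fi22.h = fF .h := by
        simp [fF, U6PTC.idx, jwF, Fi22bTC.prodw]; rfl
      rw [SetLike.mem_coe, h]; exact hof _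
    · have h : PresentedGroup.mk Fi22bTC.Rels Fi22.i = fF .i := by
        simp [fF, U6PTC.idx, jwF, Fi22bTC.prodw]; rfl
      rw [SetLike.mem_coe, h]; exact hof _
    · rw [SetLike.mem_coe, wF_eq]; exact hof _

/-- the presented group is the subgroup. -/
def eP : U6PTC.G ≃* HF :=
  (MonoidHom.ofInjective phiF_inj).trans (MulEquiv.subgroupCongr range_eq)

/-- the subgroup maps onto `PSU₆(2)`. -/
def psiH : HF →* PSU6 := psi.comp eP.symm.toMonoidHom

theorem psiH_surj : Function.Surjective psiH := psi_surj.comp eP.symm.surjective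

theorem card_HF : Nat.card HF = 2 * Nat.card PSU6 := by
  rw [← Nat.card_congr eP.toEquiv, card_P, card_PSU6]

theorem finHF : Finite HF := by
  apply Nat.finite_of_card_ne_zero
  rw [card_HF, card_PSU6]; norm_num

theorem no_index_two_P (L : Subgroup U6PTC.G) (hL : L.index = 2) : False := by
  haveI : L.Normal := Subgroup.normal_of_index_eq_two hL
  have hcard : Nat.card (U6PTC.G ⧸ L) = 2 := by rw [← Subgroup.index_eq_card]; exact hL
  have hQ2 : ∀ y : U6PTC.G ⧸ L, y ^ 2 = 1 := by
    intro y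
    have := pow_card_eq_one' (G := U6PTC.G ⧸ L) (x := y)
    rwa [hcard] at this
  set q : U6PTC.G →* U6PTC.G ⧸ L := QuotientGroup.mk' L with hq
  have hqs : Function.Surjective q := QuotientGroup.mk'_surjective L
  have hinv : ∀ y : U6PTC.G ⧸ L, y⁻¹ = y := by
    intro y
    rw [inv_eq_iff_mul_eq_one, ← pow_two]; exact hQ2 y
  have hadj : ∀ x y : U6P.Gen, coxLabel U6P.edges x y = 3 →
      q (PresentedGroup.of x) = q (PresentedGroup.of y) := by
    intro x y hxy
    have h := congrArg q (U6PTC.cox x y)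
    rw [hxy, map_pow, map_mul, map_one] at h
    have h1 := Fi22Ord.one_of_odd (hQ2 _) h (by norm_num)
    rw [mul_eq_one_iff_eq_inv, hinv] at h1
    exact h1
  have ec := hadj .d .c (by decide)
  have ee := hadj .d .e (by decide)
  have eh := hadj .d .h (by decide)
  have ef := hadj .e .f (by decide)
  have eg := hadj .f .g (by decide)
  have ei := hadj .h .i (by decide)
  have ew := hadj .f .w (by decide)
  have hd1 : q (PresentedGroup.of U6P.Gen.d) = 1 := by
    have h := congrArg q (U6PTC.extra_one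
      (r := (U6P.i * U6P.h * U6P.d * U6P.e * U6P.f * U6P.g * U6P.c) ^ 9)
      (by simp [U6P.extra]))
    simp only [map_pow, map_mul, map_one, U6PTC.mk_of] at h
    rw [← ei, ← eg, ← ef, ← eh, ← ee, ← ec] at h
    have huu : q (PresentedGroup.of U6P.Gen.d) * q (PresentedGroup.of U6P.Gen.d) = 1 := by
      rw [← pow_two]; exact hQ2 _
    rw [huu, one_mul, huu, one_mul, huu, one_mul] at h
    exact Fi22Ord.one_of_odd (hQ2 _) h (by norm_num)
  have hall : ∀ x : U6P.Gen, q (PresentedGroup.of x) = 1 := by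
    intro x
    cases x
    · rw [← ec]; exact hd1
    · exact hd1
    · rw [← ee]; exact hd1
    · rw [← ef, ← ee]; exact hd1
    · rw [← eg, ← ef, ← ee]; exact hd1
    · rw [← eh]; exact hd1
    · rw [← ei, ← eh]; exact hd1
    · rw [← ew, ← ef, ← ee]; exact hd1
  have hq1 : q = 1 := PresentedGroup.ext (fun x => by rw [hall x]; rfl)
  have hsub : ∀ y : U6PTC.G ⧸ L, y = 1 := by
    intro y
    obtain ⟨r, rfl⟩ := hqs y
    rw [hq1]; rfl
  have : Nat.card (U6PTC.G ⧸ L) = 1 := by
    haveI : Subsingleton (U6PTC.G ⧸ L) := ⟨fun a b => (hsub a).trans (hsub b).symm⟩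
    exact Nat.card_unique
  omega

theorem no_index_two_H (L : Subgroup HF) (hL : L.index = 2) : False := by
  apply no_index_two_P (L.comap eP.toMonoidHom)
  rw [Subgroup.index_comap_of_surjective _ eP.surjective]
  exact hL

theorem nonsplit : Cfsg.IsNonsplitDoubleCover HF PSU6 := by
  haveI := finHF
  exact DoubleCover.nonsplit_of psiH psiH_surj
    (DoubleCover.card_ker_two psiH psiH_surj card_HF (by rw [card_PSU6]; norm_num))
    center_PSU6 no_index_two_H

end Cfsg.Agent.Helper17.U62
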